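import Mathlib

/-!
Small counting lemmas about finite group actions used for groups with 22 Sylow 3-subgroups.
-/

set_option autoImplicit false

namespace Cfsg.Agent.Lib.SylowNumber.TwentyTwo

open Subgroup

variable {S : Type*} [Group S] {X : Type*} [MulAction S X]

/-- If `z` inverts `x` of odd prime order `q`, then `z` fixes at most one point of each regular
`⟨x⟩`-orbit. -/
theorem fixed_mul_le_of_inverts [Finite X] {q : ℕ} (hq : q.Prime) (hq2 : q ≠ 2) (x z : S)
    (hx : orderOf x = q) (hinv : z * x * z⁻¹ = x⁻¹) :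
    {y : X | z • y = y ∧ x • y ≠ y}.ncard * q ≤ {y : X | x • y ≠ y}.ncard := by
  classical
  have hzx : ∀ i : ℕ, ∀ y : X, z • y = y → z • (x ^ i • y) = (x ^ i)⁻¹ • y := by
    intro i y hy
    have e : z * x ^ i * z⁻¹ = (x ^ i)⁻¹ := by
      rw [← conj_pow, hinv, inv_pow]
    calc z • (x ^ i • y) = (z * x ^ i * z⁻¹) • (z • y) := by simp [mul_smul]
      _ = (x ^ i)⁻¹ • y := by rw [e, hy]
  rw [← Nat.card_coe_set_eq, ← Nat.card_coe_set_eq, ← Nat.card_fin q, ← Nat.card_prod]
  refine Nat.card_le_card_of_injective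
    (fun w : {y : X | z • y = y ∧ x • y ≠ y} × Fin q =>
      (⟨x ^ (w.2 : ℕ) • (w.1 : X), ?_⟩ : {y : X | x • y ≠ y})) ?_
  · show x • (x ^ (w.2 : ℕ) • (w.1 : X)) ≠ x ^ (w.2 : ℕ) • (w.1 : X)
    rw [← mul_smul, (Commute.self_pow x (w.2 : ℕ)).eq, mul_smul]
    exact fun h => w.1.2.2 ((MulAction.injective _) h)
  · have key : ∀ (a b : X) (i j : ℕ), i ≤ j → j < q → z • a = a → z • b = b → x • b ≠ b →
        x ^ i • a = x ^ j • b → i = j ∧ a = b := by
      intro a b i j hij hj ha hb hxb h
      have h1 : a = x ^ (j - i) • b := by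
        apply MulAction.injective (x ^ i)
        show x ^ i • a = x ^ i • (x ^ (j - i) • b)
        rw [← mul_smul, ← pow_add, Nat.add_sub_cancel' hij, h]
      have h2 : x ^ (2 * (j - i)) • b = b := by
        have h3 : z • a = (x ^ (j - i))⁻¹ • b := by rw [h1]; exact hzx _ b hb
        rw [ha, h1, eq_inv_smul_iff, ← mul_smul, ← pow_add, ← two_mul] at h3
        exact h3
      rcases Nat.eq_zero_or_pos (j - i) with h4 | h4
      · refine ⟨by omega, ?_⟩
        rw [h1, h4, pow_zero, one_smul]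
      · exfalso
        have hcop : Nat.Coprime (2 * (j - i)) q := by
          refine Nat.Coprime.mul_left ((Nat.coprime_primes Nat.prime_two hq).2 (Ne.symm hq2)) ?_
          exact (hq.coprime_iff_not_dvd.2 (Nat.not_dvd_of_pos_of_lt h4 (by omega))).symm
        have hmem : x ^ (2 * (j - i)) ∈ MulAction.stabilizer S b := h2
        obtain ⟨m, -, hm⟩ := Nat.exists_mul_mod_eq_one_of_coprime hcop hq.one_lt
        have h5 : (x ^ (2 * (j - i))) ^ m = x := by
          conv_rhs => rw [← pow_one x]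
          rw [← pow_mul, pow_eq_pow_iff_modEq, hx, Nat.ModEq, hm, Nat.mod_eq_of_lt hq.one_lt]
        exact hxb (h5 ▸ pow_mem hmem m : x ∈ MulAction.stabilizer S b)
    rintro ⟨⟨a, ha⟩, i⟩ ⟨⟨b, hb⟩, j⟩ h
    have h' : x ^ (i : ℕ) • a = x ^ (j : ℕ) • b := congrArg Subtype.val h
    rcases le_total (i : ℕ) j with hij | hij
    · obtain ⟨h1, rfl⟩ := key a b i j hij j.2 ha.1 hb.1 hb.2 h'
      rw [Fin.ext h1]
    · obtain ⟨h1, rfl⟩ := key b a j i hij i.2 hb.1 ha.1 ha.2 h'.symm
      rw [Fin.ext h1]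

/-- An element of order prime to `g` commuting with `g` and moving `y` like `g` fixes `y`. -/
theorem fixed_of_commute {c g : S} {r : ℕ} (hc : c ^ r = 1) (hcg : Commute c g)
    (hco : r.Coprime (orderOf g)) {y : X} (h : c • y = g • y) : c • y = y := by
  have hpow : ∀ n, c ^ n • y = g ^ n • y := by
    intro n
    induction n with
    | zero => simp
    | succ n ih =>
      rw [pow_succ', mul_smul, ih, ← mul_smul, (hcg.pow_right n).eq, mul_smul, h, ← mul_smul,
        pow_succ]
  obtain ⟨m, hm⟩ := exists_pow_eq_self_of_coprime hco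
  have h1 : g ^ r • y = y := by rw [← hpow r, hc, one_smul]
  have h2 : g ∈ MulAction.stabilizer S y := by
    rw [← hm]
    exact pow_mem (show g ^ r ∈ MulAction.stabilizer S y from h1) m
  rw [h]; exact h2

/-- The number of points of an invariant set all of whose orbits have size `k` is divisible by `k`. -/
theorem dvd_ncard_of_orbits [Finite X] (H : Subgroup S) (k : ℕ) (A : Set X)
    (hA : ∀ g ∈ H, ∀ y ∈ A, g • y ∈ A) (hk : ∀ y ∈ A, (MulAction.orbit H y).ncard = k) :
    k ∣ A.ncard := by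
  let B : SubMulAction H X := ⟨A, fun g y hy => hA g g.2 y hy⟩
  have hB : Nat.card B = A.ncard := Nat.card_coe_set_eq A
  classical
  haveI := Fintype.ofFinite (MulAction.orbitRel.Quotient H B)
  rw [← hB, Nat.card_congr (MulAction.selfEquivSigmaOrbits H B), Nat.card_sigma]
  refine Finset.dvd_sum fun ω _ => dvd_of_eq ?_
  rw [Nat.card_coe_set_eq, ← hk _ ω.out.2, ← Set.ncard_image_of_injective _ Subtype.val_injective]
  congr 1
  exact (SubMulAction.val_image_orbit ω.out).symm

/-- An invariant set is congruent mod `p` to its set of fixed points under a `p`-group. -/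
theorem ncard_modEq_fixed [Finite X] {p : ℕ} [Fact p.Prime] {H : Subgroup S} (hH : IsPGroup p H)
    (A : Set X) (hA : ∀ g ∈ H, ∀ y ∈ A, g • y ∈ A) :
    A.ncard ≡ {y ∈ A | ∀ g ∈ H, g • y = y}.ncard [MOD p] := by
  let B : SubMulAction H X := ⟨A, fun g y hy => hA g g.2 y hy⟩
  have h := hH.card_modEq_card_fixedPoints B
  have e : Nat.card (MulAction.fixedPoints H B) = {y ∈ A | ∀ g ∈ H, g • y = y}.ncard := by
    rw [Nat.card_coe_set_eq, ← Set.ncard_image_of_injective _ Subtype.val_injective]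
    congr 1
    ext y
    constructor
    · rintro ⟨w, hw, rfl⟩
      exact ⟨w.2, fun g hg => congrArg Subtype.val (hw ⟨g, hg⟩)⟩
    · rintro ⟨hy, hfix⟩
      exact ⟨⟨y, hy⟩, fun g => Subtype.ext (hfix g g.2), rfl⟩
  rw [e] at h
  have hB : Nat.card B = A.ncard := Nat.card_coe_set_eq A
  rwa [hB] at h

end Cfsg.Agent.Lib.SylowNumber.TwentyTwo
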