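import Cfsg.Agent.Lib.SylowNumber.TwentyTwo.SmallSylow

/-!
22 Sylow 3-subgroups of order 3 are impossible in a simple group.
-/

set_option autoImplicit false
set_option linter.style.haveILetI false
set_option linter.unusedSectionVars false

namespace Cfsg.Agent.Lib.SylowNumber.TwentyTwo

open Subgroup
open scoped Pointwise

variable {S : Type*} [Group S] [Finite S] [IsSimpleGroup S] [Fact (Nat.Prime 3)]
  [Fact (Nat.Prime 11)]

theorem solve_arith_three : ∀ w < 561, w ∣ 560 → ∀ e ∈ ([2, 5, 10] : List ℕ), e ∣ 12 * w →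
    0 < w → 12 * w / e % 11 = 1 → w ∈ ([2, 5, 10, 35, 112, 280, 560] : List ℕ) := by
  decide +kernel

theorem not_case_three (hS : ¬ IsMulCommutative S) (hn : Nat.card (Sylow 3 S) = 22)
    (h3 : ∀ P : Sylow 3 S, Nat.card (P : Subgroup S) = 3) : False := by
  classical
  obtain ⟨P⟩ := (inferInstance : Nonempty (Sylow 3 S))
  have horb : ∀ (P Q : Sylow 3 S), Q ≠ P → (MulAction.orbit (P : Subgroup S) Q).ncard = 3 := by
    intro P Q h
    rw [ncard_orbit]
    rcases relIndex_cases hn h with h' | h'
    · exact h'
    · exfalso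
      have := card_mul_relIndex_self (inf_le_left : (P : Subgroup S) ⊓ Q ≤ P)
      rw [h', h3] at this
      omega
  -- the centraliser
  have hdata : ∀ P : Sylow 3 S, ∃ w, Nat.card (centralizer ((P : Subgroup S) : Set S)) = 3 * w ∧
      Nat.card (normalizer ((P : Subgroup S) : Set S)) = 6 * w ∧ w ∣ 560 ∧
      (w = 35 ∨ w = 112 ∨ w = 280 ∨ w = 560 → False) := by
    intro P
    set C := centralizer ((P : Subgroup S) : Set S) with hC
    set N := normalizer ((P : Subgroup S) : Set S) with hN
    haveI : IsCyclic (P : Subgroup S) := isCyclic_of_prime_card (h3 P)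
    have hPC : (P : Subgroup S) ≤ C := le_centralizer (H := (P : Subgroup S))
    have hCN : C ≤ N := centralizer_le_normalizer _
    have hindex : C.relIndex N = 2 := by
      have h1 := index_ker (normalizerMonoidHom (P : Subgroup S))
      rw [normalizerMonoidHom_ker] at h1
      have h2 : C.relIndex N ∣ 2 := by
        show (C.subgroupOf N).index ∣ 2
        rw [h1, show 2 = Nat.card (MulAut (P : Subgroup S)) by
          rw [IsCyclic.card_mulAut, h3, Nat.totient_prime (Fact.out : Nat.Prime 3)]]
        exact card_subgroup_dvd_card _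
      rcases (Nat.dvd_prime Nat.prime_two).1 h2 with h | h
      · rw [relIndex_eq_one] at h
        exact absurd h (SmallGroups.not_normalizer_le_centralizer hS (three_dvd_card hn) P)
      · exact h
    set w := (P : Subgroup S).relIndex C with hw
    have hcC : Nat.card C = 3 * w := by rw [← h3 P, card_mul_relIndex_self hPC]
    have hcN : Nat.card N = 6 * w := by
      rw [← card_mul_relIndex_self hCN, hindex, hcC]; ring
    have hw3 : ¬ 3 ∣ w := fun h => P.not_dvd_index
      (h.trans (Dvd.intro _ (relIndex_mul_index hPC)))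
    -- action on the seven orbits
    let B : SubMulAction C (Set (Sylow 3 S)) :=
      ⟨{O | ∃ Q, Q ≠ P ∧ MulAction.orbit (P : Subgroup S) Q = O}, by
        rintro c O ⟨Q, hQ, rfl⟩
        have hcP : (c : S) • P = P := Sylow.smul_eq_iff_mem_normalizer.2 (hCN c.2)
        refine ⟨(c : S) • Q, fun h => hQ ?_, ?_⟩
        · rw [← hcP] at h
          exact MulAction.injective (c : S) h
        · have hcom : ∀ g : (P : Subgroup S), (g : S) * c = c * g := fun g =>
            mem_centralizer_iff.1 c.2 g g.2
          ext R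
          rw [Set.mem_smul_set]
          constructor
          · rintro ⟨g, rfl⟩
            refine ⟨g • Q, ⟨g, rfl⟩, ?_⟩
            show (c : S) • (g : S) • Q = (g : S) • (c : S) • Q
            rw [← mul_smul, ← mul_smul, hcom]
          · rintro ⟨R', ⟨g, rfl⟩, rfl⟩
            refine ⟨g, ?_⟩
            show (g : S) • (c : S) • Q = (c : S) • (g : S) • Q
            rw [← mul_smul, ← mul_smul, hcom]⟩
    have hB : Nat.card B = 7 := by
      haveI := Fintype.ofFinite (Sylow 3 S)
      haveI := Fintype.ofFinite (Set (Sylow 3 S))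
      have h21 : ((Finset.univ : Finset (Sylow 3 S)).erase P).card = 21 := by
        rw [Finset.card_erase_of_mem (Finset.mem_univ _), Finset.card_univ,
          Fintype.card_eq_nat_card, hn]
      have hBc : Nat.card B = (((Finset.univ : Finset (Sylow 3 S)).erase P).image
          fun Q => MulAction.orbit (P : Subgroup S) Q).card := by
        rw [← Set.ncard_coe_finset, Finset.coe_image, show Nat.card B =
          {O | ∃ Q, Q ≠ P ∧ MulAction.orbit (P : Subgroup S) Q = O}.ncard from Nat.card_coe_set_eq _]
        congr 1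
        ext O
        simp
      rw [Finset.card_eq_sum_card_image (fun Q => MulAction.orbit (P : Subgroup S) Q),
        Finset.sum_const_nat (m := 3), ← hBc] at h21
      · omega
      · intro O hO
        obtain ⟨Q, hQ, rfl⟩ := Finset.mem_image.1 hO
        rw [Finset.mem_erase] at hQ
        refine Eq.trans ?_ (horb P Q hQ.1)
        rw [← Set.ncard_coe_finset]
        congr 1
        ext R
        simp only [Finset.coe_filter, Finset.mem_erase, Finset.mem_univ, and_true, Set.mem_ofPred_eq]
        refine ⟨fun h => h.2 ▸ MulAction.mem_orbit_self R,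
          fun h => ⟨?_, MulAction.orbit_eq_iff.2 h⟩⟩
        rintro rfl
        obtain ⟨g, hg⟩ := h
        refine hQ.1 (MulAction.injective g ?_)
        show (g : S) • Q = (g : S) • R
        rw [show (g : S) • Q = R from hg, Sylow.smul_eq_iff_mem_normalizer.2 (le_normalizer g.2)]
    set φ := MulAction.toPermHom C B with hφ
    have hker : ∀ r, r.Prime → r ≠ 3 → ¬ r ∣ Nat.card φ.ker := by
      intro r hr hr3 hdvd
      haveI : Fact r.Prime := ⟨hr⟩
      obtain ⟨⟨c, hck⟩, hc⟩ := exists_prime_orderOf_dvd_card' r hdvd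
      rw [Subgroup.orderOf_mk] at hc
      have hc' : orderOf (c : S) = r := by rw [Subgroup.orderOf_coe, hc]
      have h1 : (c : S) = 1 := by
        refine eq_one_of_forall_smul hS hn fun Q => ?_
        rcases eq_or_ne Q P with rfl | hQ
        · exact Sylow.smul_eq_iff_mem_normalizer.2 (hCN c.2)
        have h2 : c • (⟨_, ⟨Q, hQ, rfl⟩⟩ : B) = ⟨_, ⟨Q, hQ, rfl⟩⟩ := Equiv.ext_iff.1 hck _
        have h3' : (c : S) • Q ∈ MulAction.orbit (P : Subgroup S) Q := by
          have h4 : c • MulAction.orbit (P : Subgroup S) Q = MulAction.orbit (P : Subgroup S) Q :=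
            congrArg Subtype.val h2
          rw [← h4]
          exact ⟨Q, MulAction.mem_orbit_self Q, rfl⟩
        obtain ⟨g, hg⟩ := h3'
        refine fixed_of_commute (r := r) (g := (g : S)) ?_ ?_ ?_ hg.symm
        · rw [← hc', pow_orderOf_eq_one]
        · exact (mem_centralizer_iff.1 c.2 g g.2).symm
        · have h5 := orderOf_dvd_natCard g
          rw [h3, ← Subgroup.orderOf_coe] at h5
          exact Nat.Coprime.coprime_dvd_right h5 ((Nat.coprime_primes hr Fact.out).2 hr3)
      rw [h1, orderOf_one] at hc'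
      exact hr.ne_one hc'.symm
    have hkc : Nat.card φ.ker = 3 := by
      have hle : (P : Subgroup S).subgroupOf C ≤ φ.ker := by
        intro c hc
        refine Equiv.ext fun O => Subtype.ext ?_
        obtain ⟨Q, hQ, hO⟩ := O.2
        show c • (O : Set (Sylow 3 S)) = O
        rw [← hO]
        exact MulAction.smul_orbit (⟨(c : S), hc⟩ : (P : Subgroup S)) Q
      have h1 : 3 ∣ Nat.card φ.ker := by
        refine dvd_trans (dvd_of_eq ?_) (Subgroup.card_dvd_of_le hle)
        rw [Nat.card_congr (Subgroup.subgroupOfEquivOfLe hPC).toEquiv, h3]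
      obtain ⟨k, hk⟩ := h1
      have h2 : Nat.card φ.ker ∣ 3 * w := hcC ▸ card_subgroup_dvd_card _
      rw [hk] at h2
      have hkw : k ∣ w := Nat.dvd_of_mul_dvd_mul_left (by norm_num) h2
      rcases eq_or_ne k 1 with rfl | hk1
      · rw [hk]
      · obtain ⟨r, hr, hrk⟩ := Nat.exists_prime_and_dvd hk1
        exact absurd (hk ▸ hrk.mul_left 3) (hker r hr (by rintro rfl; exact hw3 (hrk.trans hkw)))
    have hrange : Nat.card φ.range = w := by
      have := φ.ker.card_mul_index
      rw [index_ker, hkc, hcC] at this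
      omega
    refine ⟨w, hcC, hcN, ?_, fun h => ?_⟩
    · have h5040 : w ∣ 5040 := by
        rw [← hrange, show 5040 = Nat.card (Equiv.Perm B) by rw [Nat.card_perm, hB]; rfl]
        exact card_subgroup_dvd_card _
      refine Nat.Coprime.dvd_of_dvd_mul_right (k := w) (n := 9) ?_ (by simpa using h5040)
      exact (Nat.Coprime.pow_left 2 ((Fact.out : Nat.Prime 3).coprime_iff_not_dvd.2 hw3)).symm
    · exact no_subgroup_perm_seven hB φ.range (by rw [hrange]; exact h)
  have h11 : ∀ P : Sylow 3 S, ¬ 11 ∣ Nat.card (normalizer ((P : Subgroup S) : Set S)) := by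
    intro P h
    obtain ⟨w, -, hN, hw, -⟩ := hdata P
    rw [hN] at h
    rcases (Fact.out : Nat.Prime 11).dvd_mul.1 h with h' | h'
    · norm_num at h'
    · exact absurd (h'.trans hw) (by norm_num)
  obtain ⟨e, he10, he1, heq, hNX⟩ := exists_eleven hS hn h11 P
  obtain ⟨w, hC, hN, hw, hbad⟩ := hdata P
  rw [hN, ← mul_assoc] at heq
  have hemem : e ∈ [2, 5, 10] := by
    have hle := Nat.le_of_dvd (by norm_num) he10
    interval_cases e <;> simp at he10 he1 ⊢
  have hm := card_sylow_modEq_one 11 S
  have hsol := solve_arith_three w (Nat.lt_succ_of_le (Nat.le_of_dvd (by norm_num) hw)) hw e hemem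
    (Dvd.intro_left _ heq) (Nat.pos_of_ne_zero fun h => by
      rw [h] at hw; simp at hw) (by
      rw [show 12 * w = Nat.card (Sylow 11 S) * e from heq.symm,
        Nat.mul_div_cancel _ (Nat.pos_of_ne_zero fun h => by subst h; simp at he10)]
      exact hm)
  have hcard := card_normalizer hn P
  rw [Nat.ModEq] at hm
  simp only [List.mem_cons, List.not_mem_nil, or_false] at hemem hsol
  rcases hsol with rfl | rfl | rfl | h
  · obtain ⟨rfl, h12⟩ : e = 2 ∧ Nat.card (Sylow 11 S) = 12 := by
      rcases hemem with rfl | rfl | rfl <;> omega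
    refine not_card_264 hS hn h3 h11 (fun Q => ?_) (by rw [← hcard, hN]) h12 hNX
    obtain ⟨w', hC', hN', -, -⟩ := hdata Q
    have h1 := card_normalizer hn Q
    rw [← hcard, hN', hN] at h1
    rw [hC']
    exact ⟨3, by omega⟩
  · have h12 : Nat.card (Sylow 11 S) = 12 := by rcases hemem with rfl | rfl | rfl <;> omega
    exact not_five_dvd_centralizer hS P (hC ▸ Dvd.intro_left _ rfl) (by rw [h3]) (k := 55)
      (by norm_num) (by rw [← hcard, hN]; norm_num) (by rw [← hcard, hN]) h12
  · have h12 : Nat.card (Sylow 11 S) = 12 := by rcases hemem with rfl | rfl | rfl <;> omega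
    exact not_five_dvd_centralizer hS P (hC ▸ ⟨6, by norm_num⟩) (by rw [h3]) (k := 110)
      (by norm_num) (by rw [← hcard, hN]; norm_num) (by rw [← hcard, hN]) h12
  · exact hbad h

end Cfsg.Agent.Lib.SylowNumber.TwentyTwo
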