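import Cfsg.Agent.Lib.SylowNumber.TwentyTwo.Count
import Cfsg.Agent.Lib.SmallGroups.InvolutionParity

/-!
The Sylow 11-subgroups of a simple group with 22 Sylow 3-subgroups.
-/

set_option autoImplicit false
set_option linter.style.haveILetI false
set_option linter.unusedSectionVars false

namespace Cfsg.Agent.Lib.SylowNumber.TwentyTwo

open Subgroup

variable {S : Type*} [Group S] [Finite S] [IsSimpleGroup S] [Fact (Nat.Prime 3)]
  [Fact (Nat.Prime 11)]

theorem card_normalizer (hn : Nat.card (Sylow 3 S) = 22) (P : Sylow 3 S) :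
    Nat.card (normalizer ((P : Subgroup S) : Set S)) * 22 = Nat.card S := by
  rw [← hn]; exact SmallGroups.card_normalizer_sylow_mul P

theorem zpowers_eq_sylow (hn : Nat.card (Sylow 3 S) = 22) {P : Sylow 3 S}
    (h11 : ¬ 11 ∣ Nat.card (normalizer ((P : Subgroup S) : Set S))) {x : S} (hx : orderOf x = 11) :
    ∃ T : Sylow 11 S, (T : Subgroup S) = zpowers x := by
  have hcard : Nat.card S = 11 ^ 1 * (2 * Nat.card (normalizer ((P : Subgroup S) : Set S))) := by
    rw [← card_normalizer hn P]; ring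
  have h2 : ¬ 11 ∣ 2 * Nat.card (normalizer ((P : Subgroup S) : Set S)) := fun h => by
    rcases (Fact.out : Nat.Prime 11).dvd_mul.1 h with h' | h'
    · norm_num at h'
    · exact h11 h'
  obtain ⟨T, hT⟩ := (IsPGroup.of_card (p := 11) (n := 1)
    (by rw [Nat.card_zpowers, hx, pow_one]) : IsPGroup 11 (zpowers x)).exists_le_sylow
  refine ⟨T, (eq_of_le_of_card_ge hT ?_).symm⟩
  rw [SmallGroups.card_sylow_eq T hcard h2, Nat.card_zpowers, hx, pow_one]

/-- An element of order 11 moves every Sylow 3-subgroup. -/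
theorem moves_all (hn : Nat.card (Sylow 3 S) = 22)
    (h11 : ∀ P : Sylow 3 S, ¬ 11 ∣ Nat.card (normalizer ((P : Subgroup S) : Set S))) {x : S}
    (hx : orderOf x = 11) (Q : Sylow 3 S) : x • Q ≠ Q := fun h => by
  refine h11 Q (hx ▸ ?_)
  exact orderOf_mk x (Sylow.smul_eq_iff_mem_normalizer.1 h) ▸
    orderOf_dvd_natCard (⟨x, Sylow.smul_eq_iff_mem_normalizer.1 h⟩ :
      normalizer ((Q : Subgroup S) : Set S))

/-- An element of order 11 is self-centralising. -/
theorem centralizer_le (hS : ¬ IsMulCommutative S) (hn : Nat.card (Sylow 3 S) = 22)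
    (h11 : ∀ P : Sylow 3 S, ¬ 11 ∣ Nat.card (normalizer ((P : Subgroup S) : Set S))) {x : S}
    (hx : orderOf x = 11) : centralizer ({x} : Set S) ≤ zpowers x := by
  set C := centralizer ({x} : Set S) with hC
  obtain ⟨P⟩ := (inferInstance : Nonempty (Sylow 3 S))
  obtain ⟨T, hT⟩ := zpowers_eq_sylow hn (h11 P) hx
  have hle : zpowers x ≤ C := zpowers_le.2 (mem_centralizer_singleton_iff.2 rfl)
  by_contra hne
  have hidx : (zpowers x).relIndex C ≠ 1 := fun h => hne (relIndex_eq_one.1 h)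
  obtain ⟨r, hr, hrd⟩ := Nat.exists_prime_and_dvd hidx
  have hr11 : r ≠ 11 := by
    rintro rfl
    refine T.not_dvd_index ?_
    rw [hT, ← relIndex_mul_index hle]
    exact hrd.mul_right _
  haveI : Fact r.Prime := ⟨hr⟩
  have hrC : r ∣ Nat.card C := by
    rw [← card_mul_relIndex_self hle]; exact hrd.mul_left _
  obtain ⟨⟨c, hc⟩, hco⟩ := exists_prime_orderOf_dvd_card' r hrC
  rw [Subgroup.orderOf_mk] at hco
  set A : Set (Sylow 3 S) := {Q | c • Q = Q} with hA
  have hinv : ∀ g ∈ zpowers x, ∀ Q ∈ A, g • Q ∈ A := by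
    intro g hg Q hQ
    have hgc : Commute c g := by
      obtain ⟨i, rfl⟩ := mem_zpowers_iff.1 hg
      exact (show Commute c x from mem_centralizer_singleton_iff.1 hc).zpow_right i
    show c • g • Q = g • Q
    rw [← mul_smul, hgc.eq, mul_smul, hQ]
  have hxp : IsPGroup 11 (zpowers x) := hT ▸ T.2
  have hA11 := ncard_modEq_fixed hxp A hinv
  have hfix0 : {Q ∈ A | ∀ g ∈ zpowers x, g • Q = Q} = ∅ := Set.eq_empty_iff_forall_notMem.2
    fun Q hQ => moves_all hn h11 hx Q (hQ.2 x (mem_zpowers x))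
  rw [hfix0, Set.ncard_empty] at hA11
  have hle22 : A.ncard ≤ 22 := hn ▸ Set.ncard_le_card A
  have hrp : IsPGroup r (zpowers c) := IsPGroup.of_card (n := 1) (by rw [Nat.card_zpowers, hco, pow_one])
  have hAr := ncard_modEq_fixed hrp (Set.univ : Set (Sylow 3 S)) (fun _ _ _ _ => trivial)
  have hfc : {Q ∈ (Set.univ : Set (Sylow 3 S)) | ∀ g ∈ zpowers c, g • Q = Q} = A := by
    ext Q
    refine ⟨fun h => h.2 c (mem_zpowers c), fun h => ⟨trivial, fun g hg => ?_⟩⟩
    exact (zpowers_le.2 (show c ∈ MulAction.stabilizer S Q from h) hg :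
      g ∈ MulAction.stabilizer S Q)
  rw [hfc, Set.ncard_univ, hn] at hAr
  obtain ⟨k, hk⟩ := (Nat.modEq_zero_iff_dvd.1 hA11 : 11 ∣ A.ncard)
  have hk2 : k ≤ 2 := by omega
  interval_cases k
  · -- no fixed points: `c` is an odd involution
    have h2 : r ∣ 22 := by
      rw [hk] at hAr
      exact Nat.modEq_zero_iff_dvd.1 hAr
    have hr2 : r = 2 := by
      rcases hr.dvd_mul.1 (show r ∣ 2 * 11 from h2) with h | h
      · exact (Nat.prime_dvd_prime_iff_eq hr Nat.prime_two).1 h
      · exact absurd ((Nat.prime_dvd_prime_iff_eq hr (Fact.out : Nat.Prime 11)).1 h) hr11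
    subst hr2
    have h4 := SmallGroups.card_fixedBy_mod_four hS (X := Sylow 3 S) hco
    rw [Nat.card_coe_set_eq, hn, show MulAction.fixedBy (Sylow 3 S) c = A from rfl, hk] at h4
    norm_num at h4
  · -- 11 fixed points
    rw [hk] at hAr
    have h2 : r ∣ 22 - 11 * 1 := (Nat.modEq_iff_dvd' (by norm_num)).1 hAr.symm
    rcases (Fact.out : Nat.Prime 11).eq_one_or_self_of_dvd r h2 with h | h
    · exact hr.ne_one h
    · exact hr11 h
  · -- trivial
    have huniv : A = Set.univ := Set.eq_of_subset_of_ncard_le (Set.subset_univ _)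
      (by rw [Set.ncard_univ, hn, hk]) Set.finite_univ
    have hc1 := eq_one_of_forall_smul hS hn (g := c) fun Q => (huniv.symm ▸ Set.mem_univ Q : Q ∈ A)
    rw [hc1, orderOf_one] at hco
    exact hr.ne_one hco.symm

/-- The normaliser of an element of order 11. -/
theorem exists_eleven (hS : ¬ IsMulCommutative S) (hn : Nat.card (Sylow 3 S) = 22)
    (h11 : ∀ P : Sylow 3 S, ¬ 11 ∣ Nat.card (normalizer ((P : Subgroup S) : Set S)))
    (P : Sylow 3 S) :
    ∃ e, e ∣ 10 ∧ e ≠ 1 ∧
      Nat.card (Sylow 11 S) * e = 2 * Nat.card (normalizer ((P : Subgroup S) : Set S)) ∧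
      ∀ x : S, orderOf x = 11 → Nat.card (normalizer ((zpowers x : Subgroup S) : Set S)) = 11 * e := by
  have hdvd : 11 ∣ Nat.card S := by
    rw [← card_normalizer hn P]; exact Dvd.dvd.mul_left (by norm_num) _
  obtain ⟨x, hx⟩ := exists_prime_orderOf_dvd_card' (G := S) 11 hdvd
  obtain ⟨T, hT⟩ := zpowers_eq_sylow hn (h11 P) hx
  set X := zpowers x with hX
  set NX := normalizer ((X : Subgroup S) : Set S) with hNX
  have hcX : Nat.card X = 11 := by rw [Nat.card_zpowers, hx]
  have hCX : centralizer (X : Set S) = X := by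
    rw [hX, zpowers_eq_closure, centralizer_closure, ← zpowers_eq_closure]
    exact le_antisymm (centralizer_le hS hn h11 hx)
      (zpowers_le.2 (mem_centralizer_singleton_iff.2 rfl))
  set e := X.relIndex NX with he
  have hcard : Nat.card NX = 11 * e := by
    rw [he, ← hcX]; exact (card_mul_relIndex_self le_normalizer).symm
  refine ⟨e, ?_, ?_, ?_, ?_⟩
  · have h1 := index_ker (normalizerMonoidHom X)
    rw [normalizerMonoidHom_ker] at h1
    have h2 : ((centralizer (X : Set S)).subgroupOf NX).index = e := by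
      rw [hCX]; rfl
    rw [h2] at h1
    rw [h1, show 10 = Nat.card (MulAut X) by
      haveI : IsCyclic X := isCyclic_of_prime_card hcX
      rw [IsCyclic.card_mulAut, hcX, Nat.totient_prime (Fact.out : Nat.Prime 11)]]
    exact card_subgroup_dvd_card _
  · intro h
    refine SmallGroups.not_normalizer_le_centralizer hS hdvd T ?_
    rw [hT]
    rw [he, relIndex_eq_one] at h
    exact h.trans hCX.ge
  · have h1 := SmallGroups.card_normalizer_sylow_mul T
    rw [hT, ← hNX, hcard, ← card_normalizer hn P] at h1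
    linarith
  · intro y hy
    obtain ⟨U, hU⟩ := zpowers_eq_sylow hn (h11 P) hy
    have h1 := SmallGroups.card_normalizer_sylow_mul U
    have h2 := SmallGroups.card_normalizer_sylow_mul T
    rw [hT, ← hNX] at h2
    rw [hU] at h1
    rw [← hcard]
    exact Nat.eq_of_mul_eq_mul_right Nat.card_pos (h1.trans h2.symm)

/-- An involution normalising `⟨x⟩` inverts `x` and fixes exactly two Sylow 3-subgroups. -/
theorem involution_spec (hS : ¬ IsMulCommutative S) (hn : Nat.card (Sylow 3 S) = 22)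
    (h11 : ∀ P : Sylow 3 S, ¬ 11 ∣ Nat.card (normalizer ((P : Subgroup S) : Set S))) {x z : S}
    (hx : orderOf x = 11) (hz : orderOf z = 2)
    (hzx : z ∈ normalizer ((zpowers x : Subgroup S) : Set S)) :
    z * x * z⁻¹ = x⁻¹ ∧ {Q : Sylow 3 S | z • Q = Q}.ncard = 2 := by
  have hz2 : z * z = 1 := by rw [← sq, ← hz, pow_orderOf_eq_one]
  have hinv : z * x * z⁻¹ = x⁻¹ := by
    obtain ⟨k, hk⟩ := mem_zpowers_iff.1 ((mem_normalizer_iff.1 hzx x).1 (mem_zpowers x))
    have h1 : x ^ (k * k) = x := by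
      rw [zpow_mul, hk, conj_zpow, hk]
      simp only [mul_assoc, ← mul_inv_rev, hz2, inv_one, mul_one]
      rw [← mul_assoc, hz2, one_mul]
    have h2 : (11 : ℤ) ∣ (k - 1) * (k + 1) := by
      have h3 : x ^ (k * k - 1) = 1 := by rw [zpow_sub, h1, zpow_one, mul_inv_cancel]
      have h4 := orderOf_dvd_iff_zpow_eq_one.2 h3
      rw [hx] at h4
      calc (11 : ℤ) ∣ k * k - 1 := h4
        _ = (k - 1) * (k + 1) := by ring
    rcases (Int.prime_iff_natAbs_prime.2 (by norm_num : Nat.Prime (Int.natAbs 11))).dvd_or_dvd h2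
      with h | h
    · exfalso
      have h5 : x ^ (k - 1) = 1 := orderOf_dvd_iff_zpow_eq_one.1 (by rw [hx]; exact h)
      rw [zpow_sub, zpow_one, mul_inv_eq_one, hk, mul_inv_eq_iff_eq_mul] at h5
      have h6 : z ∈ zpowers x :=
        centralizer_le hS hn h11 hx (mem_centralizer_singleton_iff.2 h5)
      have h7 := orderOf_dvd_natCard (⟨z, h6⟩ : zpowers x)
      rw [Subgroup.orderOf_mk, hz, Nat.card_zpowers, hx] at h7
      norm_num at h7
    · have h5 : x ^ (k + 1) = 1 := orderOf_dvd_iff_zpow_eq_one.1 (by rw [hx]; exact h)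
      rw [zpow_add, zpow_one, hk] at h5
      exact eq_inv_of_mul_eq_one_left h5
  refine ⟨hinv, ?_⟩
  have h1 := fixed_mul_le_of_inverts (X := Sylow 3 S) (Fact.out : Nat.Prime 11) (by norm_num) x z
    hx hinv
  rw [show {y : Sylow 3 S | z • y = y ∧ x • y ≠ y} = {y | z • y = y} from
    Set.ext fun y => ⟨And.left, fun h => ⟨h, moves_all hn h11 hx y⟩⟩] at h1
  have h2 : {y : Sylow 3 S | x • y ≠ y}.ncard ≤ 22 := hn ▸ Set.ncard_le_card _
  have h3 := SmallGroups.card_fixedBy_mod_four hS (X := Sylow 3 S) hz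
  rw [Nat.card_coe_set_eq, hn] at h3
  change {Q : Sylow 3 S | z • Q = Q}.ncard % 4 = _ at h3
  omega

end Cfsg.Agent.Lib.SylowNumber.TwentyTwo
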