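import Cfsg.Agent.Lib.SylowNumber.TwentyTwo.Lines
import Cfsg.Agent.Lib.SylowNumber.TwentyTwo.Eleven

/-!
Four lines of four points through each of 22 points are impossible in a simple group.
-/

set_option autoImplicit false
set_option linter.style.haveILetI false
set_option linter.unusedSectionVars false

namespace Cfsg.Agent.Lib.SylowNumber.TwentyTwo

open Subgroup
open scoped Pointwise

/-- An automorphism of a group of order 3 other than the identity is inversion. -/
theorem mulAut_three {Q : Type*} [Group Q] (hQ : Nat.card Q = 3) (f : MulAut Q) (hf : f ≠ 1)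
    (x : Q) : f x = x⁻¹ := by
  classical
  haveI : Finite Q := Nat.finite_of_card_ne_zero (by omega)
  haveI : Fact (Nat.Prime 3) := ⟨by norm_num⟩
  rcases eq_or_ne x 1 with rfl | hx
  · simp
  have htop : ∀ y : Q, y ∈ zpowers x := fun y => mem_zpowers_of_prime_card hQ hx
  obtain ⟨k, hk⟩ := mem_zpowers_iff.1 (htop (f x))
  have h3 : x ^ (3 : ℤ) = 1 := by
    have h := pow_card_eq_one' (x := x)
    rw [hQ] at h
    simpa using h
  rw [← Int.emod_add_mul_ediv k 3, zpow_add, zpow_mul, h3, one_zpow, mul_one] at hk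
  have hlt := Int.emod_lt_of_pos k (b := 3) (by norm_num)
  have hnn := Int.emod_nonneg k (b := 3) (by norm_num)
  have hcases : k % 3 = 0 ∨ k % 3 = 1 ∨ k % 3 = 2 := by omega
  rcases hcases with h | h | h <;> rw [h] at hk
  · rw [zpow_zero] at hk
    exact absurd (f.injective (hk.symm.trans (map_one f).symm)) hx
  · rw [zpow_one] at hk
    refine absurd (MulEquiv.ext fun y => ?_) hf
    obtain ⟨j, rfl⟩ := mem_zpowers_iff.1 (htop y)
    rw [map_zpow, ← hk]
    rfl
  · rw [← hk, eq_inv_iff_mul_eq_one, ← zpow_add_one]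
    exact h3

/-- The number of automorphisms of a group of order 3. -/
theorem card_mulAut_three {Q : Type*} [Group Q] (hQ : Nat.card Q = 3) :
    Nat.card (MulAut Q) = 2 := by
  haveI : Finite Q := Nat.finite_of_card_ne_zero (by omega)
  haveI : Fact (Nat.Prime 3) := ⟨by norm_num⟩
  haveI : IsCyclic Q := isCyclic_of_prime_card hQ
  rw [IsCyclic.card_mulAut, hQ, Nat.totient_prime (Fact.out : Nat.Prime 3)]

theorem solve_arith_lines : ∀ s < 5, ∀ t < 8, 2 ≤ s → 3 ^ s * 2 ^ t % 11 = 1 →
    (s * 10 + t = 24 ∨ s * 10 + t = 36) := by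
  decide +kernel

theorem weight_two_of_eq : ∀ f g : Fin 4 → Bool,
    (Finset.univ.filter fun i => f i).card = (Finset.univ.filter fun i => g i).card → f ≠ g →
    (Finset.univ.filter fun i => f i).card = 2 ∨
      (Finset.univ.filter fun i => xor (f i) (g i)).card = 2 := by
  decide +kernel

/-- In a group of order 2 two nontrivial elements cancel. -/
theorem mul_eq_one_of_card_two {A : Type*} [Group A] (hA : Nat.card A = 2) {a b : A} (ha : a ≠ 1)
    (hb : b ≠ 1) : a * b = 1 := by
  by_contra hab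
  haveI : Finite A := Nat.finite_of_card_ne_zero (by omega)
  have h : ({1, a, a * b} : Set A).ncard ≤ 2 := hA ▸ Set.ncard_le_card _
  rw [Set.ncard_insert_of_notMem (by simp [Ne.symm ha, Ne.symm hab]),
    Set.ncard_pair (fun h => hb (by simpa using h.symm))] at h
  omega

/-- A group of sign vectors of length 4 without one of weight 2 has at most four elements. -/
theorem card_le_four_of_weights {M : Type*} [Group M] {A : Fin 4 → Type*} [∀ i, Group (A i)]
    (hA : ∀ i, Nat.card (A i) = 2) (f : M →* ∀ i, A i) (hf : Function.Injective f)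
    [∀ m : M, DecidablePred fun i => f m i ≠ 1]
    (h2 : ∀ m : M, (Finset.univ.filter fun i => f m i ≠ 1).card ≠ 2) : Nat.card M ≤ 4 := by
  classical
  let w : M → ℕ := fun m => (Finset.univ.filter fun i => f m i ≠ 1).card
  have hw : ∀ m, w m ∈ ({0, 1, 3, 4} : Set ℕ) := fun m => by
    simp only [Set.mem_insert_iff, Set.mem_singleton_iff]
    have h5 : w m ≤ (Finset.univ : Finset (Fin 4)).card := Finset.card_filter_le _ _
    have h6 : w m ≠ 2 := h2 m
    rw [Finset.card_univ, Fintype.card_fin] at h5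
    omega
  have hinj : Function.Injective fun m => (⟨w m, hw m⟩ : ({0, 1, 3, 4} : Set ℕ)) := by
    intro a b hab
    by_contra hne
    let u : M → Fin 4 → Bool := fun m i => decide (f m i ≠ 1)
    have hu : ∀ m, (Finset.univ.filter fun i => u m i).card = w m := fun m => by
      simp only [u, w, decide_eq_true_eq]
    have hune : u a ≠ u b := by
      intro h
      refine hne (mul_inv_eq_one.1 (hf ?_))
      rw [map_one]
      funext i
      have h1 := congrFun h i
      simp only [u, decide_eq_decide] at h1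
      rw [map_mul, map_inv, Pi.mul_apply, Pi.inv_apply, Pi.one_apply, mul_inv_eq_one]
      by_cases ha : f a i = 1
      · rw [ha]
        by_contra hb
        exact h1.2 (Ne.symm hb) ha
      · exact (eq_inv_of_mul_eq_one_left (mul_eq_one_of_card_two (hA i) ha (h1.1 ha))).trans
          (inv_eq_of_mul_eq_one_right (mul_eq_one_of_card_two (hA i) (h1.1 ha) (h1.1 ha)))
    rcases weight_two_of_eq (u a) (u b) (by rw [hu, hu]; exact congrArg Subtype.val hab) hune with
      h | h
    · exact h2 a ((hu a).symm.trans h)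
    · refine h2 (a * b) (Eq.trans ?_ h)
      congr 1
      ext i
      simp only [Finset.mem_filter, Finset.mem_univ, true_and, u, map_mul, Pi.mul_apply]
      by_cases ha : f a i = 1
      · simp [ha]
      by_cases hb : f b i = 1
      · simp [hb]
      simp [ha, hb, mul_eq_one_of_card_two (hA i) ha hb]
  refine (Nat.card_le_card_of_injective _ hinj).trans ?_
  rw [Nat.card_coe_set_eq]
  norm_num [Set.ncard_insert_of_notMem]

/-- Two subgroups of order 3 sharing a nontrivial element are equal. -/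
theorem eq_zpowers_trans {G : Type*} [Group G] [Finite G] {D D' : Subgroup G}
    (hD : Nat.card D = 3) (hD' : Nat.card D' = 3) {y : G} (hy : y ∈ D) (hy' : y ∈ D')
    (hy1 : y ≠ 1) : D = D' := by
  haveI : Fact (Nat.Prime 3) := ⟨by norm_num⟩
  refine eq_of_le_of_card_ge (fun d hd => ?_) (by rw [hD, hD'])
  have h1 : (⟨d, hd⟩ : D) ∈ zpowers (⟨y, hy⟩ : D) :=
    mem_zpowers_of_prime_card hD (fun h => hy1 (congrArg Subtype.val h))
  obtain ⟨k, hk⟩ := mem_zpowers_iff.1 h1
  have h2 : y ^ k = d := congrArg Subtype.val hk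
  exact h2 ▸ zpow_mem hy' k

namespace FourLines

variable {S : Type*} [Group S] [Finite S] [IsSimpleGroup S] [Fact (Nat.Prime 3)]
  [Fact (Nat.Prime 11)]

/-- An involutory action on a Sylow 3-subgroup of order 27 cannot invert exactly two directions. -/
theorem no_weight_two (h : FourLines S) {P : Sylow 3 S} (hs : Nat.card (P : Subgroup S) = 27)
    (g : S) (hgP : ∀ x ∈ (P : Subgroup S), g * x * g⁻¹ ∈ (P : Subgroup S))
    (hg2 : ∀ x ∈ (P : Subgroup S), g * (g * x * g⁻¹) * g⁻¹ = x)
    {A B C D : Subgroup S} (hA : A ∈ dirs P) (hB : B ∈ dirs P) (hC : C ∈ dirs P)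
    (hD : D ∈ dirs P) (hAB : A ≠ B) (hCD : C ≠ D)
    (iA : ∀ x ∈ (P : Subgroup S), x * (g * x * g⁻¹) ∈ A)
    (iB : ∀ x ∈ (P : Subgroup S), x * (g * x * g⁻¹) ∈ B)
    (tC : ∀ x ∈ (P : Subgroup S), x⁻¹ * (g * x * g⁻¹) ∈ C)
    (tD : ∀ x ∈ (P : Subgroup S), x⁻¹ * (g * x * g⁻¹) ∈ D) : False := by
  have h9 : ∀ E ∈ dirs P, Nat.card E = 9 := fun E hE => by
    have h1 := card_mul_relIndex_self (mem_dirs hE).1
    rw [(mem_dirs hE).2, hs] at h1
    omega
  have hle3 : ∀ E F : Subgroup S, E ∈ dirs P → F ∈ dirs P → E ≠ F →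
      Nat.card (E ⊓ F : Subgroup S) ≤ 3 := by
    intro E F hE hF hne
    have hdiv : Nat.card (E ⊓ F : Subgroup S) ∣ 9 :=
      h9 E hE ▸ Subgroup.card_dvd_of_le inf_le_left
    have hne9 : Nat.card (E ⊓ F : Subgroup S) ≠ 9 := fun h' => by
      have h1 := eq_of_le_of_card_ge (inf_le_left : E ⊓ F ≤ E) (by rw [h9 E hE, h'])
      exact hne (eq_of_le_of_card_ge (inf_eq_left.1 h1) (by rw [h9 E hE, h9 F hF]))
    have hle := Nat.le_of_dvd (by norm_num) hdiv
    generalize Nat.card (E ⊓ F : Subgroup S) = c at *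
    interval_cases c <;> omega
  have h4 : ∀ x ∈ (P : Subgroup S), x ^ 4 = x := fun x hx => by
    rw [pow_succ, (h.elementary P hx hx).2, one_mul]
  let pr : S → S := fun x => (x * (g * x * g⁻¹)) ^ 2
  let qr : S → S := fun x => (x * (g * x * g⁻¹)⁻¹) ^ 2
  have hpr : ∀ x ∈ (P : Subgroup S), pr x ∈ A ⊓ B := by
    intro x hx
    have hP : pr x ∈ (P : Subgroup S) := pow_mem (mul_mem hx (hgP x hx)) 2
    have hfix : g * pr x * g⁻¹ = pr x := by
      show g * (x * (g * x * g⁻¹)) ^ 2 * g⁻¹ = (x * (g * x * g⁻¹)) ^ 2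
      rw [← conj_pow, ← conj_mul, hg2 x hx, (h.elementary P hx (hgP x hx)).1]
    have key : ∀ E : Subgroup S, (∀ y ∈ (P : Subgroup S), y * (g * y * g⁻¹) ∈ E) → pr x ∈ E := by
      intro E hE
      have h2 := hE _ hP
      rw [hfix] at h2
      have h3 := mul_mem h2 h2
      rwa [show pr x * pr x * (pr x * pr x) = pr x ^ 4 by simp only [pow_succ, pow_zero, one_mul, mul_assoc],
        h4 _ hP] at h3
    exact ⟨key A iA, key B iB⟩
  have hqr : ∀ x ∈ (P : Subgroup S), qr x ∈ C ⊓ D := by
    intro x hx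
    have hP : qr x ∈ (P : Subgroup S) := pow_mem (mul_mem hx (inv_mem (hgP x hx))) 2
    have hfix : g * qr x * g⁻¹ = (qr x)⁻¹ := by
      show g * (x * (g * x * g⁻¹)⁻¹) ^ 2 * g⁻¹ = ((x * (g * x * g⁻¹)⁻¹) ^ 2)⁻¹
      rw [← conj_pow, ← conj_mul, ← conj_inv, hg2 x hx, ← inv_pow, mul_inv_rev, inv_inv]
    have key : ∀ E : Subgroup S, (∀ y ∈ (P : Subgroup S), y⁻¹ * (g * y * g⁻¹) ∈ E) → qr x ∈ E := by
      intro E hE
      have h2 := inv_mem (hE _ hP)
      rw [hfix, mul_inv_rev, inv_inv] at h2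
      have h3 := mul_mem h2 h2
      rwa [show qr x * qr x * (qr x * qr x) = qr x ^ 4 by simp only [pow_succ, pow_zero, one_mul, mul_assoc],
        h4 _ hP] at h3
    exact ⟨key C tC, key D tD⟩
  have hrec : ∀ x ∈ (P : Subgroup S), pr x * qr x = x := by
    intro x hx
    have hcm : Commute x (g * x * g⁻¹) := (h.elementary P hx (hgP x hx)).1
    show (x * (g * x * g⁻¹)) ^ 2 * (x * (g * x * g⁻¹)⁻¹) ^ 2 = x
    rw [hcm.mul_pow, hcm.inv_right.mul_pow, inv_pow]
    have hq : Commute (x ^ 2) ((g * x * g⁻¹) ^ 2) := hcm.pow_pow 2 2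
    calc x ^ 2 * (g * x * g⁻¹) ^ 2 * (x ^ 2 * ((g * x * g⁻¹) ^ 2)⁻¹)
        = (x ^ 2 * (g * x * g⁻¹) ^ 2) * ((g * x * g⁻¹) ^ 2)⁻¹ * x ^ 2 := by
          rw [hq.inv_right.eq]; simp only [mul_assoc]
      _ = x ^ 2 * x ^ 2 := by rw [mul_inv_cancel_right]
      _ = x := by rw [← pow_add]; exact h4 x hx
  have hb : Nat.card (P : Subgroup S) ≤ 3 * 3 := by
    refine le_trans ?_ (Nat.mul_le_mul (hle3 A B hA hB hAB) (hle3 C D hC hD hCD))
    rw [← Nat.card_prod]
    refine Nat.card_le_card_of_injective (fun x : (P : Subgroup S) =>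
      ((⟨pr x, hpr x x.2⟩, ⟨qr x, hqr x x.2⟩) : (A ⊓ B : Subgroup S) × (C ⊓ D : Subgroup S))) ?_
    intro x y hxy
    simp only [Prod.mk.injEq, Subtype.mk.injEq] at hxy
    exact Subtype.ext ((hrec x x.2).symm.trans (by rw [hxy.1, hxy.2, hrec y y.2]))
  rw [hs] at hb
  omega

set_option maxHeartbeats 1000000 in
/-- The order of the normaliser of a Sylow 3-subgroup. -/
theorem normalizer_data (h : FourLines S) (P : Sylow 3 S) :
    ∃ s t, 2 ≤ s ∧ s ≤ 4 ∧ Nat.card (P : Subgroup S) = 3 ^ s ∧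
      t ≤ 7 ∧ Nat.card (normalizer ((P : Subgroup S) : Set S)) = 3 ^ s * 2 ^ t ∧
      (s = 3 → t ≤ 5) := by
  classical
  haveI : Fact (Nat.Prime 2) := ⟨Nat.prime_two⟩
  obtain ⟨s, hs2, hs4, hs⟩ := h.card_sylow P
  set N := normalizer ((P : Subgroup S) : Set S) with hN
  have hPN : (P : Subgroup S) ≤ N := le_normalizer
  have hfixP : ∀ g : N, (g : S) • P = P := fun g => Sylow.smul_eq_iff_mem_normalizer.2 g.2
  letI actN : MulAction N (dirs P) :=
    { smul := fun g D => ⟨MulAut.conj (g : S) • (D : Subgroup S),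
        by have h' := smul_mem_dirs D.2 (g : S); rwa [hfixP g] at h'⟩
      one_smul := fun D => Subtype.ext (show MulAut.conj ((1 : N) : S) • (D : Subgroup S) = D by
        rw [OneMemClass.coe_one, map_one, one_smul])
      mul_smul := fun a b D => Subtype.ext (show MulAut.conj ((a * b : N) : S) • (D : Subgroup S) =
        MulAut.conj (a : S) • (MulAut.conj (b : S) • (D : Subgroup S)) by
        rw [Subgroup.coe_mul, map_mul, mul_smul]) }
  set ψ := MulAction.toPermHom N (dirs P) with hψ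
  haveI hnorm : ∀ D : dirs P, ((D : Subgroup S).subgroupOf (P : Subgroup S)).Normal :=
    fun D => normal_subgroupOf D.2
  have hstab : ∀ (g : ψ.ker) (D : dirs P),
      ((D : Subgroup S).subgroupOf (P : Subgroup S)).map
        ((normalizerMonoidHom (P : Subgroup S) (g : N) : (P : Subgroup S) ≃* (P : Subgroup S)) :
          (P : Subgroup S) →* (P : Subgroup S)) =
        (D : Subgroup S).subgroupOf (P : Subgroup S) := by
    intro g D
    have hD : MulAut.conj ((g : N) : S) • (D : Subgroup S) = D :=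
      congrArg Subtype.val (Equiv.ext_iff.1 (MonoidHom.mem_ker.1 g.2) D)
    ext a
    rw [Subgroup.mem_map, mem_subgroupOf]
    constructor
    · rintro ⟨b, hb, rfl⟩
      rw [← hD]
      exact ⟨(b : S), mem_subgroupOf.1 hb, rfl⟩
    · intro ha
      rw [← hD] at ha
      obtain ⟨b, hb, hba⟩ := ha
      exact ⟨⟨b, (mem_dirs D.2).1 hb⟩, mem_subgroupOf.2 hb, Subtype.ext hba⟩
  let χ : ψ.ker →* ((D : dirs P) → MulAut
      ((P : Subgroup S) ⧸ (D : Subgroup S).subgroupOf (P : Subgroup S))) :=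
    { toFun := fun g D => QuotientGroup.congr _ _ (normalizerMonoidHom (P : Subgroup S) (g : N))
        (hstab g D)
      map_one' := by
        funext D
        refine MulEquiv.ext fun q => ?_
        induction q using QuotientGroup.induction_on with
        | _ a =>
          rw [QuotientGroup.congr_mk, OneMemClass.coe_one, map_one]
          rfl
      map_mul' := fun g k => by
        funext D
        refine MulEquiv.ext fun q => ?_
        induction q using QuotientGroup.induction_on with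
        | _ a =>
          rw [QuotientGroup.congr_mk, Subgroup.coe_mul, map_mul]
          rfl }
  have hq3 : ∀ D : dirs P,
      Nat.card ((P : Subgroup S) ⧸ (D : Subgroup S).subgroupOf (P : Subgroup S)) = 3 :=
    fun D => (mem_dirs D.2).2
  have hχap : ∀ (g : ψ.ker) (D : dirs P) (a : (P : Subgroup S)),
      χ g D (a : (P : Subgroup S) ⧸ (D : Subgroup S).subgroupOf (P : Subgroup S)) =
      ((normalizerMonoidHom (P : Subgroup S) (g : N) a : (P : Subgroup S)) :
        (P : Subgroup S) ⧸ (D : Subgroup S).subgroupOf (P : Subgroup S)) := fun g D a =>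
    QuotientGroup.congr_mk _ _ _ (hstab g D) a
  have hkerχ : ∀ g : ψ.ker, χ g = 1 → ((g : N) : S) ∈ (P : Subgroup S) := by
    intro g hg
    rw [← h.centralizer_eq P]
    refine mem_centralizer_iff.2 fun a ha => ?_
    have h1 : a⁻¹ * (((g : N) : S) * a * ((g : N) : S)⁻¹) = 1 := by
      refine h.eq_one_of_mem_dirs P fun D hD => ?_
      have h2 := hχap g ⟨D, hD⟩ ⟨a, ha⟩
      rw [hg] at h2
      exact mem_subgroupOf.1 (QuotientGroup.eq.1 h2)
    exact (mul_inv_eq_iff_eq_mul.1 (inv_mul_eq_one.1 h1).symm).symm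
  haveI := Fintype.ofFinite (dirs P)
  have hcard16 : Nat.card ((D : dirs P) → MulAut
      ((P : Subgroup S) ⧸ (D : Subgroup S).subgroupOf (P : Subgroup S))) = 16 := by
    rw [Nat.card_pi, Finset.prod_congr rfl fun D _ => card_mulAut_three (hq3 D),
      Finset.prod_const, Finset.card_univ, Fintype.card_eq_nat_card, Nat.card_coe_set_eq,
      h.count]
    rfl
  have hperm : Nat.card (Equiv.Perm (dirs P)) = 24 := by
    rw [Nat.card_perm, Nat.card_coe_set_eq, h.count]; rfl
  -- only the primes 2 and 3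
  set m := (P : Subgroup S).relIndex N with hm
  have hcN : Nat.card N = 3 ^ s * m := by rw [← hs, card_mul_relIndex_self hPN]
  have hm3 : ¬ 3 ∣ m := fun h' => P.not_dvd_index
    (h'.trans (Dvd.intro _ (relIndex_mul_index hPN)))
  obtain ⟨t, ht⟩ : ∃ t, m = 2 ^ t := by
    refine ⟨_, Nat.eq_prime_pow_of_unique_prime_dvd (p := 2)
      (fun h0 => hm3 (h0 ▸ dvd_zero 3)) ?_⟩
    intro r hr hrm
    by_contra hr2
    have hr3 : r ≠ 3 := by rintro rfl; exact hm3 hrm
    haveI : Fact r.Prime := ⟨hr⟩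
    obtain ⟨g, hg⟩ := exists_prime_orderOf_dvd_card' (G := N) r (hcN ▸ hrm.mul_left _)
    have h1 : ψ g = 1 := by
      refine orderOf_eq_one_iff.1 (Nat.dvd_one.1 ?_)
      have ha := orderOf_map_dvd ψ g
      rw [hg] at ha
      have hb := orderOf_dvd_natCard (ψ g)
      rw [hperm] at hb
      have hco : Nat.Coprime r 24 := by
        have e : (24 : ℕ) = 2 ^ 3 * 3 := by norm_num
        rw [e]
        exact Nat.Coprime.mul_right (((Nat.coprime_primes hr Nat.prime_two).2 hr2).pow_right 3)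
          ((Nat.coprime_primes hr Fact.out).2 hr3)
      exact hco ▸ Nat.dvd_gcd ha hb
    set g' : ψ.ker := ⟨g, h1⟩
    have h2 : χ g' = 1 := by
      refine orderOf_eq_one_iff.1 (Nat.dvd_one.1 ?_)
      have ha := orderOf_map_dvd χ g'
      rw [show orderOf g' = r by rw [← Subgroup.orderOf_coe]; exact hg] at ha
      have hb := orderOf_dvd_natCard (χ g')
      rw [hcard16] at hb
      have hco : Nat.Coprime r 16 := by
        have e : (16 : ℕ) = 2 ^ 4 := by norm_num
        rw [e]
        exact ((Nat.coprime_primes hr Nat.prime_two).2 hr2).pow_right 4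
      exact hco ▸ Nat.dvd_gcd ha hb
    have h3 := orderOf_dvd_natCard (⟨(g : S), hkerχ g' h2⟩ : (P : Subgroup S))
    rw [Subgroup.orderOf_mk, Subgroup.orderOf_coe, hg, hs] at h3
    exact hr3 ((Nat.prime_dvd_prime_iff_eq hr Fact.out).1 (hr.dvd_of_dvd_pow h3))
  rw [ht] at hcN
  -- a Sylow 2-subgroup of the normaliser
  obtain ⟨T, hT⟩ := Sylow.exists_subgroup_card_pow_prime (G := N) 2
    (n := t) (hcN ▸ Dvd.intro_left _ rfl)
  set T0 := T ⊓ ψ.ker with hT0
  have hinj : ∀ a : T0, χ ⟨a, a.2.2⟩ = 1 → a = 1 := by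
    intro a ha
    have h1 := orderOf_dvd_natCard (⟨((a : N) : S), hkerχ ⟨a, a.2.2⟩ ha⟩ : (P : Subgroup S))
    rw [Subgroup.orderOf_mk, Subgroup.orderOf_coe, hs] at h1
    have h2 := orderOf_dvd_natCard (⟨(a : N), a.2.1⟩ : T)
    rw [Subgroup.orderOf_mk, hT] at h2
    have h3 : orderOf (a : N) = 1 := Nat.eq_one_of_dvd_coprimes
      (Nat.Coprime.pow s t (by norm_num : Nat.Coprime 3 2)) h1 h2
    exact Subtype.ext (orderOf_eq_one_iff.1 h3)
  let χ' : T0 →* ((D : dirs P) → MulAut
      ((P : Subgroup S) ⧸ (D : Subgroup S).subgroupOf (P : Subgroup S))) :=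
    χ.comp (Subgroup.inclusion (inf_le_right : T ⊓ ψ.ker ≤ ψ.ker))
  have hχ'inj : Function.Injective χ' := (injective_iff_map_eq_one χ').2 fun a ha => hinj a ha
  have hcT0 : Nat.card T0 ≤ 16 := hcard16 ▸ Nat.card_le_card_of_injective χ' hχ'inj
  have himg : T0.relIndex T ≤ 8 := by
    have h1 : T0.relIndex T ∣ 2 ^ t := hT ▸ Dvd.intro_left _ (card_mul_relIndex_self (inf_le_left : T0 ≤ T))
    have h2 : T0.relIndex T ∣ 24 := by
      rw [show T0.relIndex T = (ψ.comp T.subtype).ker.index by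
        rw [← MonoidHom.comap_ker, hT0, inf_comm, inf_relIndex_right]; rfl,
        index_ker, ← hperm]
      exact card_subgroup_dvd_card _
    obtain ⟨j, -, hj⟩ := (Nat.dvd_prime_pow Nat.prime_two).1 h1
    rw [hj] at h2 ⊢
    have : (2 : ℕ) ^ j ∣ 2 ^ 3 * 3 := h2
    exact Nat.le_of_dvd (by norm_num)
      (((by norm_num : Nat.Coprime 2 3).pow_left j).dvd_of_dvd_mul_right this)
  have hTc : 2 ^ t = Nat.card T0 * T0.relIndex T := by
    rw [← hT, card_mul_relIndex_self (inf_le_left : T0 ≤ T)]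
  refine ⟨s, t, hs2, hs4, hs, ?_, hcN, ?_⟩
  · have : 2 ^ t ≤ 2 ^ 7 := by
      rw [hTc]; exact (Nat.mul_le_mul hcT0 himg).trans (by norm_num)
    exact (Nat.pow_le_pow_iff_right (by norm_num)).1 this
  · intro hs3
    subst hs3
    obtain e : Fin 4 ≃ dirs P :=
      (Finite.equivFinOfCardEq (by rw [Nat.card_coe_set_eq, h.count])).symm
    let F : T0 →* ((i : Fin 4) → MulAut
        ((P : Subgroup S) ⧸ (e i : Subgroup S).subgroupOf (P : Subgroup S))) :=
      { toFun := fun a i => χ' a (e i)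
        map_one' := by rw [map_one]; rfl
        map_mul' := fun a b => by rw [map_mul]; rfl }
    have hF : Function.Injective F := fun a b hab => hχ'inj <| funext fun D => by
      obtain ⟨i, rfl⟩ := e.surjective D
      exact congrFun hab i
    have h4 : Nat.card T0 ≤ 4 := by
      refine card_le_four_of_weights (fun i => card_mulAut_three (hq3 (e i))) F hF fun a hwt => ?_
      obtain ⟨i, j, hij, hw⟩ := Finset.card_eq_two.1 hwt
      have hco : (Finset.univ.filter fun i => ¬ F a i ≠ 1).card = 2 := by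
        have h4 := Finset.card_filter_add_card_filter_not (s := (Finset.univ : Finset (Fin 4)))
          (fun i => F a i ≠ 1)
        rw [hwt, Finset.card_univ, Fintype.card_fin] at h4
        omega
      obtain ⟨k, l, hkl, hw'⟩ := Finset.card_eq_two.1 hco
      have hne : ∀ i' ∈ ({i, j} : Finset (Fin 4)), χ' a (e i') ≠ 1 := fun i' hi' => by
        rw [← hw, Finset.mem_filter] at hi'
        exact hi'.2
      have heq : ∀ i' ∈ ({k, l} : Finset (Fin 4)), χ' a (e i') = 1 := fun i' hi' => by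
        rw [← hw', Finset.mem_filter] at hi'
        exact not_not.1 hi'.2
      set g : S := ((a : N) : S) with hg
      have hgP : ∀ x ∈ (P : Subgroup S), g * x * g⁻¹ ∈ (P : Subgroup S) := fun x hx =>
        (mem_normalizer_iff.1 (a : N).2 x).1 hx
      have hone : a * a = 1 := hχ'inj (by
        rw [map_mul, map_one]
        funext D
        rw [Pi.mul_apply, Pi.one_apply]
        by_cases hD : χ' a D = 1
        · rw [hD, one_mul]
        · exact mul_eq_one_of_card_two (card_mulAut_three (hq3 D)) hD hD)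
      have hgg : g * g = 1 := congrArg (fun w : T0 => ((w : N) : S)) hone
      have hg2 : ∀ x ∈ (P : Subgroup S), g * (g * x * g⁻¹) * g⁻¹ = x := fun x _ => by
        calc g * (g * x * g⁻¹) * g⁻¹ = (g * g) * x * (g * g)⁻¹ := by group
          _ = x := by rw [hgg]; group
      have ht' : ∀ i' ∈ ({k, l} : Finset (Fin 4)), ∀ x ∈ (P : Subgroup S),
          x⁻¹ * (g * x * g⁻¹) ∈ (e i' : Subgroup S) := by
        intro i' hi' x hx
        have h1 := hχap ⟨a, a.2.2⟩ (e i') ⟨x, hx⟩
        change χ' a (e i') _ = _ at h1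
        rw [heq i' hi', MulAut.one_apply, QuotientGroup.eq] at h1
        exact mem_subgroupOf.1 h1
      have hi' : ∀ i' ∈ ({i, j} : Finset (Fin 4)), ∀ x ∈ (P : Subgroup S),
          x * (g * x * g⁻¹) ∈ (e i' : Subgroup S) := by
        intro i' hi' x hx
        have h1 := hχap ⟨a, a.2.2⟩ (e i') ⟨x, hx⟩
        change χ' a (e i') _ = _ at h1
        rw [mulAut_three (hq3 (e i')) _ (hne i' hi'), ← QuotientGroup.mk_inv, QuotientGroup.eq,
          inv_inv] at h1
        exact mem_subgroupOf.1 h1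
      exact no_weight_two h (by rw [hs]; norm_num) g hgP hg2 (e i).2 (e j).2 (e k).2 (e l).2
        (fun h' => hij (e.injective (Subtype.ext h')))
        (fun h' => hkl (e.injective (Subtype.ext h')))
        (hi' i (by simp)) (hi' j (by simp)) (ht' k (by simp)) (ht' l (by simp))
    have : 2 ^ t ≤ 2 ^ 5 := by
      rw [hTc]; exact (Nat.mul_le_mul h4 himg).trans (by norm_num)
    exact (Nat.pow_le_pow_iff_right (by norm_num)).1 this

set_option maxHeartbeats 1000000 in
/-- Four lines of four points at each point are impossible. -/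
theorem contradiction (h : FourLines S) : False := by
  classical
  have hS := h.notComm
  have hn := h.card
  haveI : Fact (Nat.Prime 2) := ⟨Nat.prime_two⟩
  have hdata := h.normalizer_data
  -- the 11-part
  have h11 : ∀ P : Sylow 3 S, ¬ 11 ∣ Nat.card (normalizer ((P : Subgroup S) : Set S)) := by
    intro P hd
    obtain ⟨s, t, -, -, -, -, hN, -⟩ := hdata P
    rw [hN] at hd
    rcases (Fact.out : Nat.Prime 11).dvd_mul.1 hd with h' | h'
    · exact absurd ((Fact.out : Nat.Prime 11).dvd_of_dvd_pow h') (by norm_num)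
    · exact absurd ((Fact.out : Nat.Prime 11).dvd_of_dvd_pow h') (by norm_num)
  obtain ⟨P0⟩ := (inferInstance : Nonempty (Sylow 3 S))
  obtain ⟨e, he10, he1, heq, hNX⟩ := exists_eleven hS hn h11 P0
  obtain ⟨s, t, hs2, hs4, hs, ht7, hN, hst⟩ := hdata P0
  have h5 : ¬ 5 ∣ 3 ^ s * 2 ^ t * 2 := by
    intro hd
    haveI : Fact (Nat.Prime 5) := ⟨by norm_num⟩
    rcases (Fact.out : Nat.Prime 5).dvd_mul.1 hd with hd | hd
    · rcases (Fact.out : Nat.Prime 5).dvd_mul.1 hd with hd | hd <;>
        exact absurd ((Fact.out : Nat.Prime 5).dvd_of_dvd_pow hd) (by norm_num)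
    · norm_num at hd
  rw [hN] at heq
  have he2 : e = 2 := by
    have hle := Nat.le_of_dvd (by norm_num) he10
    have hne5 : ¬ 5 ∣ e := fun hd => h5 (by
      rw [mul_comm _ 2, ← heq]; exact hd.mul_left _)
    interval_cases e <;> simp_all
  subst he2
  have hm := card_sylow_modEq_one 11 S
  rw [Nat.ModEq, show Nat.card (Sylow 11 S) = 3 ^ s * 2 ^ t by omega] at hm
  have hsol := solve_arith_lines s (by omega) t (by omega) hs2 hm
  obtain ⟨rfl, rfl⟩ | ⟨rfl, rfl⟩ : (s = 2 ∧ t = 4) ∨ (s = 3 ∧ t = 6) := by omega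
  swap
  · exact absurd (hst rfl) (by norm_num)
  -- `P` of order 9
  have hdvd : 11 ∣ Nat.card S := card_normalizer hn P0 ▸ Dvd.dvd.mul_left (by norm_num) _
  obtain ⟨x, hx⟩ := exists_prime_orderOf_dvd_card' (G := S) 11 hdvd
  obtain ⟨z0, hz0⟩ := exists_prime_orderOf_dvd_card'
    (G := normalizer ((zpowers x : Subgroup S) : Set S)) 2 (by rw [hNX x hx]; norm_num)
  set z : S := (z0 : S) with hz
  have ho : orderOf z = 2 := by rw [hz, Subgroup.orderOf_coe, hz0]
  obtain ⟨-, h2⟩ := involution_spec hS hn h11 hx ho z0.2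
  obtain ⟨P, hzP⟩ : {Q : Sylow 3 S | z • Q = Q}.Nonempty :=
    Set.nonempty_of_ncard_ne_zero (by omega)
  change z • P = P at hzP
  have hzN := Sylow.smul_eq_iff_mem_normalizer.1 hzP
  have hP9 : Nat.card (P : Subgroup S) = 9 := by rw [card_eq_card P P0, hs]; norm_num
  have hz2 : z * z = 1 := by rw [← sq, ← ho, pow_orderOf_eq_one]
  have hzi : z⁻¹ = z := inv_eq_of_mul_eq_one_right hz2
  obtain ⟨v, hv, hv1, hvz⟩ : ∃ v ∈ (P : Subgroup S), v ≠ 1 ∧
      z * v * z⁻¹ ∈ zpowers v := by
    haveI : Nontrivial (P : Subgroup S) := Finite.one_lt_card_iff_nontrivial.1 (by omega)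
    obtain ⟨⟨a, ha⟩, ha1⟩ := exists_ne (1 : (P : Subgroup S))
    have ha1' : a ≠ 1 := fun h' => ha1 (Subtype.ext h')
    have hb : z * a * z⁻¹ ∈ (P : Subgroup S) := (mem_normalizer_iff.1 hzN a).1 ha
    by_cases hab : a * (z * a * z⁻¹) = 1
    · refine ⟨a, ha, ha1', ?_⟩
      rw [eq_inv_of_mul_eq_one_right hab]
      exact inv_mem (mem_zpowers a)
    · refine ⟨_, mul_mem ha hb, hab, ?_⟩
      have e1 : z * (a * (z * a * z⁻¹)) * z⁻¹ = a * (z * a * z⁻¹) := by
        rw [← conj_mul, (h.elementary P ha hb).1]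
        congr 1
        calc z * (z * a * z⁻¹) * z⁻¹ = (z * z) * a * (z * z)⁻¹ := by group
          _ = a := by rw [hz2]; group
      rw [e1]
      exact mem_zpowers _
  -- the directions are all the subgroups of order 3
  have hv3 : orderOf v = 3 :=
    orderOf_eq_prime (h.elementary P hv hv).2 hv1
  obtain ⟨D, hD, hvD⟩ : ∃ D ∈ dirs P, v ∈ D := by
    by_contra hno
    push Not at hno
    haveI := Fintype.ofFinite S
    haveI := Fintype.ofFinite (Subgroup S)
    have hD3 : ∀ D ∈ dirs P, Nat.card D = 3 := fun D hD => by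
      have h1 := card_mul_relIndex_self (mem_dirs hD).1
      rw [(mem_dirs hD).2, hP9] at h1
      omega
    have hdisj : ((dirs P).toFinset : Set (Subgroup S)).PairwiseDisjoint
        fun D => (D : Set S).toFinset.erase 1 := by
      intro D hD D' hD' hne
      refine Finset.disjoint_left.2 fun y hy hy' => hne ?_
      simp only [Finset.mem_erase, Set.mem_toFinset, SetLike.mem_coe] at hy hy'
      simp only [Set.coe_toFinset] at hD hD'
      exact eq_zpowers_trans (hD3 D hD) (hD3 D' hD') hy.2 hy'.2 hy.1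
    have hsub : (dirs P).toFinset.biUnion (fun D => (D : Set S).toFinset.erase 1) ⊆
        ((((P : Subgroup S) : Set S).toFinset.erase 1).erase v) := by
      intro y hy
      simp only [Finset.mem_biUnion, Finset.mem_erase, Set.mem_toFinset, SetLike.mem_coe] at hy ⊢
      obtain ⟨D, hD, hy1, hyD⟩ := hy
      exact ⟨fun hyv => hno D hD (hyv ▸ hyD), hy1, (mem_dirs hD).1 hyD⟩
    have hc := Finset.card_le_card hsub
    rw [Finset.card_biUnion hdisj, Finset.card_erase_of_mem (by
      simp only [Finset.mem_erase, Set.mem_toFinset, SetLike.mem_coe]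
      exact ⟨hv1, hv⟩),
      Finset.card_erase_of_mem (by simp), ← Set.ncard_eq_toFinset_card',
      ← Nat.card_coe_set_eq, SetLike.coe_sort_coe, hP9, Finset.sum_const_nat (m := 2),
      ← Set.ncard_eq_toFinset_card', h.count] at hc
    · omega
    · intro D hD
      rw [Set.mem_toFinset] at hD
      rw [Finset.card_erase_of_mem (by simp), ← Set.ncard_eq_toFinset_card', ← Nat.card_coe_set_eq,
        SetLike.coe_sort_coe, hD3 D hD]
  have hDv : D = zpowers v := by
    have h1 := card_mul_relIndex_self (mem_dirs hD).1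
    rw [(mem_dirs hD).2, hP9] at h1
    exact (eq_of_le_of_card_ge (zpowers_le.2 hvD) (by rw [Nat.card_zpowers, hv3]; omega)).symm
  -- too many fixed points
  have hline : ∀ R ∈ line D \ {P}, z • R ∈ line D \ {P} := by
    rintro R ⟨hR, hRP⟩
    refine ⟨smul_mem_line (fun d hd => ?_) hR, fun h' => hRP ?_⟩
    · rw [hDv] at hd ⊢
      obtain ⟨k, rfl⟩ := mem_zpowers_iff.1 hd
      rw [hzi, show z * v ^ k * z = (z * v * z⁻¹) ^ k by rw [conj_zpow, hzi]]
      exact zpow_mem hvz k
    · exact MulAction.injective z ((show z • R = P from h').trans hzP.symm)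
  have hinvset : ∀ A : Set (Sylow 3 S), (∀ R ∈ A, z • R ∈ A) → Odd A.ncard →
      ∃ R ∈ A, z • R = R := by
    intro A hA hodd
    have hzp : IsPGroup 2 (zpowers z) :=
      IsPGroup.of_card (n := 1) (by rw [Nat.card_zpowers, ho, pow_one])
    have hmem : ∀ g ∈ zpowers z, ∀ R ∈ A, g • R ∈ A := by
      intro g hg R hR
      have hset : (zpowers z : Subgroup S) ≤ MulAction.stabilizer S A := by
        rw [zpowers_le, MulAction.mem_stabilizer_iff]
        refine Set.eq_of_subset_of_ncard_le ?_ (by rw [Set.ncard_smul_set]) (Set.toFinite _)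
        rintro _ ⟨R', hR', rfl⟩
        exact hA R' hR'
      have h' : g • A = A := hset hg
      rw [← h']
      exact Set.smul_mem_smul_set hR
    have h1 := ncard_modEq_fixed hzp A hmem
    rw [Nat.ModEq, Nat.odd_iff.1 hodd] at h1
    obtain ⟨R, hR⟩ : {y ∈ A | ∀ g ∈ zpowers z, g • y = y}.Nonempty :=
      Set.nonempty_of_ncard_ne_zero (by omega)
    exact ⟨R, hR.1, hR.2 z (mem_zpowers z)⟩
  obtain ⟨R1, hR1, hR1z⟩ := hinvset _ hline (by
    rw [Set.ncard_sdiff_singleton_of_mem (show P ∈ line D from (mem_dirs hD).1), h.lines P D hD]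
    decide)
  obtain ⟨R2, hR2, hR2z⟩ := hinvset (far P) (fun R hR => smul_mem_far_of_fix hn hzP hR)
    (by rw [h.farCard]; decide)
  have h12 : R1 ≠ R2 := fun h' => by
    have h3 := (line_spec hD hR1.1 hR1.2).1
    change _ = 3 at h3
    rw [h'] at h3
    change _ = 9 at hR2
    omega
  have h20 : P ≠ R2 := fun h' => by
    subst h'
    change _ = 9 at hR2
    rw [inf_idem, relIndex_self] at hR2
    omega
  have hsub : ({P, R1, R2} : Set (Sylow 3 S)) ⊆ {Q : Sylow 3 S | z • Q = Q} := by
    rintro Q (rfl | rfl | rfl)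
    exacts [hzP, hR1z, hR2z]
  have hc := Set.ncard_le_ncard hsub (Set.toFinite _)
  rw [Set.ncard_insert_of_notMem (by simp [Ne.symm hR1.2, h20]), Set.ncard_pair h12, h2] at hc
  omega

end FourLines

end Cfsg.Agent.Lib.SylowNumber.TwentyTwo
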