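import Cfsg.Agent.Lib.SylowNumber.TwentyTwo.Actions
import Cfsg.Agent.Lib.SmallGroups.Basic

/-!
The configuration of 22 Sylow 3-subgroups in a simple group: adjacency and lines.
-/

set_option autoImplicit false
set_option linter.style.haveILetI false
set_option linter.unusedSectionVars false

namespace Cfsg.Agent.Lib.SylowNumber.TwentyTwo

open Subgroup
open scoped Pointwise

variable {S : Type*} [Group S]

/-- Two Sylow 3-subgroups meeting in index 3. -/
def Adj (P Q : Sylow 3 S) : Prop := ((P : Subgroup S) ⊓ Q).relIndex (P : Subgroup S) = 3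

/-- The intersections of `P` with the adjacent Sylow subgroups. -/
def dirs (P : Sylow 3 S) : Set (Subgroup S) := {D | ∃ Q, Adj P Q ∧ (P : Subgroup S) ⊓ Q = D}

/-- The Sylow subgroups containing `D`. -/
def line (D : Subgroup S) : Set (Sylow 3 S) := {R | D ≤ R}

theorem smul_mem_iff (g y : S) (P : Sylow 3 S) :
    y ∈ ((g • P : Sylow 3 S) : Subgroup S) ↔ g⁻¹ * y * g ∈ (P : Subgroup S) := by
  rw [Sylow.coe_subgroup_smul, Subgroup.mem_pointwise_smul_iff_inv_smul_mem, ← map_inv]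
  simp

variable [Finite S] [Fact (Nat.Prime 3)]

theorem card_eq_card (P Q : Sylow 3 S) :
    Nat.card (P : Subgroup S) = Nat.card (Q : Subgroup S) := by
  rw [P.card_eq_multiplicity, Q.card_eq_multiplicity]

omit [Fact (Nat.Prime 3)] in
theorem card_mul_relIndex_self {D H : Subgroup S} (h : D ≤ H) :
    Nat.card D * D.relIndex H = Nat.card H := by
  rw [← relIndex_bot_left, ← relIndex_bot_left]
  exact relIndex_mul_relIndex ⊥ D H bot_le h

theorem adj_iff (P Q : Sylow 3 S) :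
    Adj P Q ↔ Nat.card ((P : Subgroup S) ⊓ Q : Subgroup S) * 3 = Nat.card (P : Subgroup S) := by
  have h := card_mul_relIndex_self (inf_le_left : (P : Subgroup S) ⊓ Q ≤ P)
  unfold Adj
  constructor
  · intro h3; rw [← h, h3]
  · intro h3
    exact Nat.eq_of_mul_eq_mul_left Nat.card_pos (h.trans h3.symm)

theorem Adj.symm {P Q : Sylow 3 S} (h : Adj P Q) : Adj Q P := by
  rw [adj_iff, card_eq_card Q P] at *
  rwa [inf_comm]

theorem Adj.ne {P Q : Sylow 3 S} (h : Adj P Q) : Q ≠ P := by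
  rintro rfl
  rw [Adj, inf_idem, relIndex_self] at h
  exact absurd h (by norm_num)

theorem eq_of_le {P Q : Sylow 3 S} (h : (P : Subgroup S) ≤ Q) : Q = P :=
  (Sylow.ext (eq_of_le_of_card_ge h (card_eq_card Q P).le)).symm

/-- For elements of `P`, fixing `Q` is lying in `Q`. -/
theorem smul_eq_iff {P : Sylow 3 S} {g : S} (hg : g ∈ (P : Subgroup S)) (Q : Sylow 3 S) :
    g • Q = Q ↔ g ∈ (Q : Subgroup S) := by
  rw [Sylow.smul_eq_iff_mem_normalizer]
  refine ⟨fun h => ?_, fun h => le_normalizer h⟩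
  have h2 : g ∈ (P : Subgroup S) ⊓ normalizer ((Q : Subgroup S) : Set S) := ⟨hg, h⟩
  exact (le_of_eq (P.2.inf_normalizer_sylow Q) h2).2

theorem ncard_orbit (P Q : Sylow 3 S) : (MulAction.orbit (P : Subgroup S) Q).ncard =
    ((P : Subgroup S) ⊓ Q).relIndex (P : Subgroup S) := by
  have hst : MulAction.stabilizer (P : Subgroup S) Q = (Q : Subgroup S).subgroupOf (P : Subgroup S) := by
    ext g
    rw [MulAction.mem_stabilizer_iff, mem_subgroupOf]
    exact smul_eq_iff g.2 Q
  rw [← MulAction.index_stabilizer, hst, inf_relIndex_left]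
  rfl

theorem relIndex_cases (hn : Nat.card (Sylow 3 S) = 22) {P Q : Sylow 3 S} (h : Q ≠ P) :
    Adj P Q ∨ ((P : Subgroup S) ⊓ Q).relIndex (P : Subgroup S) = 9 := by
  obtain ⟨k, hk⟩ := P.2.exists_card_eq
  obtain ⟨j, -, hj⟩ := (Nat.dvd_prime_pow (Fact.out : Nat.Prime 3)).1
    (hk ▸ Dvd.intro_left _ (card_mul_relIndex_self (inf_le_left : (P : Subgroup S) ⊓ Q ≤ P)) :
      ((P : Subgroup S) ⊓ Q).relIndex (P : Subgroup S) ∣ 3 ^ k)
  have hle : 3 ^ j ≤ 22 := by
    rw [← hj, ← ncard_orbit, ← hn, ← Set.ncard_univ]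
    exact Set.ncard_le_ncard (Set.subset_univ _) Set.finite_univ
  unfold Adj
  rw [hj]
  match j with
  | 0 =>
    rw [pow_zero, relIndex_eq_one, le_inf_iff] at hj
    exact absurd (eq_of_le hj.2) h
  | 1 => exact Or.inl rfl
  | 2 => exact Or.inr rfl
  | j + 3 =>
    have : 3 ^ 3 ≤ 3 ^ (j + 3) := Nat.pow_le_pow_right (by norm_num) (by omega)
    omega

/-- A subgroup of index 3 of `P` in another Sylow subgroup is their intersection. -/
theorem inf_eq_of_le {P R : Sylow 3 S} {D : Subgroup S} (hDP : D ≤ (P : Subgroup S))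
    (hi : D.relIndex (P : Subgroup S) = 3) (hR : D ≤ (R : Subgroup S)) (hne : R ≠ P) :
    Adj P R ∧ (P : Subgroup S) ⊓ R = D := by
  have h1 := relIndex_mul_relIndex D ((P : Subgroup S) ⊓ R) (P : Subgroup S) (le_inf hDP hR)
    inf_le_left
  rw [hi] at h1
  have h2 : ((P : Subgroup S) ⊓ R).relIndex (P : Subgroup S) ≠ 1 := fun h => by
    rw [relIndex_eq_one, le_inf_iff] at h
    exact hne (eq_of_le h.2)
  rcases (Nat.dvd_prime (Fact.out : Nat.Prime 3)).1 (Dvd.intro_left _ h1) with h | h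
  · exact absurd h h2
  · refine ⟨h, le_antisymm ?_ (le_inf hDP hR)⟩
    rw [← relIndex_eq_one]
    rw [h] at h1
    omega

theorem mem_dirs {P : Sylow 3 S} {D : Subgroup S} (h : D ∈ dirs P) :
    D ≤ (P : Subgroup S) ∧ D.relIndex (P : Subgroup S) = 3 := by
  obtain ⟨Q, hQ, rfl⟩ := h
  exact ⟨inf_le_left, hQ⟩

theorem line_spec {P R : Sylow 3 S} {D : Subgroup S} (h : D ∈ dirs P) (hR : R ∈ line D)
    (hne : R ≠ P) : Adj P R ∧ (P : Subgroup S) ⊓ R = D :=
  inf_eq_of_le (mem_dirs h).1 (mem_dirs h).2 hR hne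

theorem mem_dirs_of_mem_line {P R : Sylow 3 S} {D : Subgroup S} (h : D ∈ dirs P)
    (hR : R ∈ line D) : D ∈ dirs R := by
  rcases eq_or_ne R P with rfl | hne
  · exact h
  · obtain ⟨h1, h2⟩ := line_spec h hR hne
    exact ⟨P, h1.symm, by rw [inf_comm, h2]⟩

/-- Two points on a line determine it. -/
theorem inf_eq_of_mem_line {P R R' : Sylow 3 S} {D : Subgroup S} (h : D ∈ dirs P)
    (hR : R ∈ line D) (hR' : R' ∈ line D) (hne : R' ≠ R) : (R : Subgroup S) ⊓ R' = D :=
  (line_spec (mem_dirs_of_mem_line h hR) hR' hne).2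

theorem conj_mem_of_mem_dirs {P : Sylow 3 S} {D : Subgroup S} (h : D ∈ dirs P) {g d : S}
    (hg : g ∈ (P : Subgroup S)) (hd : d ∈ D) : g * d * g⁻¹ ∈ D := by
  obtain ⟨hDP, hi⟩ := mem_dirs h
  obtain ⟨k, hk⟩ := P.2.exists_card_eq
  have hk0 : k ≠ 0 := by
    rintro rfl
    rw [pow_zero] at hk
    have := card_mul_relIndex_self hDP
    rw [hi, hk] at this
    omega
  haveI : (D.subgroupOf (P : Subgroup S)).Normal := by
    refine Subgroup.normal_of_index_eq_minFac_card ?_
    show D.relIndex (P : Subgroup S) = _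
    rw [hi, hk, Nat.pow_minFac hk0, (Fact.out : Nat.Prime 3).minFac_eq]
  have := Normal.conj_mem (inferInstance : (D.subgroupOf (P : Subgroup S)).Normal)
    ⟨d, hDP hd⟩ (mem_subgroupOf.2 hd) ⟨g, hg⟩
  exact mem_subgroupOf.1 this

theorem smul_mem_line {g : S} {D : Subgroup S} (hg : ∀ d ∈ D, g⁻¹ * d * g ∈ D) {R : Sylow 3 S}
    (hR : R ∈ line D) : g • R ∈ line D := fun d hd =>
  (smul_mem_iff g d R).2 (hR (hg d hd))

theorem smul_mem_line_of_mem {P : Sylow 3 S} {D : Subgroup S} (h : D ∈ dirs P) {g : S}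
    (hg : g ∈ (P : Subgroup S)) {R : Sylow 3 S} (hR : R ∈ line D) : g • R ∈ line D :=
  smul_mem_line (fun d hd => by
    have := conj_mem_of_mem_dirs h (inv_mem hg) hd
    rwa [inv_inv] at this) hR

omit [Finite S] [Fact (Nat.Prime 3)] in
theorem coe_smul (g : S) (P : Sylow 3 S) :
    ((g • P : Sylow 3 S) : Subgroup S) = MulAut.conj g • (P : Subgroup S) :=
  Sylow.coe_subgroup_smul

theorem Adj.smul {P Q : Sylow 3 S} (h : Adj P Q) (g : S) : Adj (g • P) (g • Q) := by
  rw [adj_iff] at *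
  rw [coe_smul, coe_smul, ← Subgroup.smul_inf,
    ← Nat.card_congr (Subgroup.equivSMul (MulAut.conj g) _).toEquiv,
    ← Nat.card_congr (Subgroup.equivSMul (MulAut.conj g) _).toEquiv, h]

theorem smul_mem_dirs {P : Sylow 3 S} {D : Subgroup S} (h : D ∈ dirs P) (g : S) :
    MulAut.conj g • D ∈ dirs (g • P) := by
  obtain ⟨Q, hQ, rfl⟩ := h
  exact ⟨g • Q, hQ.smul g, by rw [coe_smul, coe_smul, Subgroup.smul_inf]⟩

omit [Finite S] [Fact (Nat.Prime 3)] in
theorem line_smul (g : S) (D : Subgroup S) :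
    line (MulAut.conj g • D) = (fun R : Sylow 3 S => g • R) '' line D := by
  ext R
  constructor
  · intro h
    refine ⟨g⁻¹ • R, ?_, smul_inv_smul g R⟩
    show D ≤ _
    rw [coe_smul, map_inv]
    exact Subgroup.subset_pointwise_smul_iff.2 (by rwa [inv_inv])
  · rintro ⟨R', h, rfl⟩
    show _ ≤ ((g • R' : Sylow 3 S) : Subgroup S)
    rw [coe_smul]
    exact Subgroup.pointwise_smul_le_pointwise_smul_iff.2 h

omit [Finite S] [Fact (Nat.Prime 3)] in
theorem ncard_line_smul (g : S) (D : Subgroup S) :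
    (line (MulAut.conj g • D)).ncard = (line D).ncard := by
  rw [line_smul, Set.ncard_image_of_injective _ (MulAction.injective g)]

theorem ncard_dirs_line (k : ℕ) (P Q : Sylow 3 S) :
    {D ∈ dirs P | (line D).ncard = k}.ncard = {D ∈ dirs Q | (line D).ncard = k}.ncard := by
  have key : ∀ P Q : Sylow 3 S,
      {D ∈ dirs P | (line D).ncard = k}.ncard ≤ {D ∈ dirs Q | (line D).ncard = k}.ncard := by
    intro P Q
    obtain ⟨g, rfl⟩ := MulAction.exists_smul_eq S P Q
    refine Set.ncard_le_ncard_of_injOn (fun D => MulAut.conj g • D) ?_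
      (MulAction.injective _).injOn (Set.toFinite _)
    rintro D ⟨hD, hk⟩
    exact ⟨smul_mem_dirs hD g, by rw [ncard_line_smul, hk]⟩
  exact le_antisymm (key P Q) (key Q P)

/-- Double counting of incidences between points and lines with `k` points. -/
theorem dvd_mul_ncard_dirs (hn : Nat.card (Sylow 3 S) = 22) (k : ℕ) (P : Sylow 3 S) :
    k ∣ 22 * {D ∈ dirs P | (line D).ncard = k}.ncard := by
  classical
  haveI := Fintype.ofFinite (Sylow 3 S)
  haveI := Fintype.ofFinite (Subgroup S)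
  set t : Finset (Subgroup S) :=
    Finset.univ.filter fun D => ∃ R : Sylow 3 S, D ∈ dirs R ∧ (line D).ncard = k with ht
  have h := Finset.sum_card_bipartiteAbove_eq_sum_card_bipartiteBelow
    (fun (R : Sylow 3 S) (D : Subgroup S) => D ∈ dirs R) (s := Finset.univ) (t := t)
  have hl : ∀ R : Sylow 3 S, (t.bipartiteAbove (fun R D => D ∈ dirs R) R).card =
      {D ∈ dirs P | (line D).ncard = k}.ncard := by
    intro R
    rw [ncard_dirs_line k P R, ← Set.ncard_coe_finset]
    congr 1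
    ext D
    simp only [Finset.coe_filter, Finset.bipartiteAbove, ht, Finset.mem_filter, Finset.mem_univ,
      true_and, Set.mem_ofPred_eq]
    exact ⟨fun ⟨⟨_, _, h2⟩, h3⟩ => ⟨h3, h2⟩, fun ⟨h1, h2⟩ => ⟨⟨R, h1, h2⟩, h1⟩⟩
  have hr : ∀ D ∈ t, (Finset.univ.bipartiteBelow (fun R D => D ∈ dirs R) D).card = k := by
    intro D hD
    obtain ⟨R, hR, hk⟩ := (Finset.mem_filter.1 hD).2
    rw [← hk, ← Set.ncard_coe_finset]
    congr 1
    ext R'
    simp only [Finset.coe_filter, Finset.bipartiteBelow, Finset.mem_univ, true_and,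
      Set.mem_ofPred_eq]
    exact ⟨fun h' => (mem_dirs h').1, fun h' => mem_dirs_of_mem_line hR h'⟩
  rw [Finset.sum_congr rfl fun R _ => hl R, Finset.sum_congr rfl hr, Finset.sum_const,
    Finset.sum_const, Finset.card_univ, smul_eq_mul, smul_eq_mul, Fintype.card_eq_nat_card,
    hn] at h
  exact Dvd.intro_left _ h.symm

end Cfsg.Agent.Lib.SylowNumber.TwentyTwo
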