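import Cfsg.Agent.Lib.SylowNumber.TwentyTwo.Config

/-!
With 22 Sylow 3-subgroups, either they have order 3 or every point is on four lines of four points.
-/

set_option autoImplicit false
set_option linter.style.haveILetI false
set_option linter.unusedSectionVars false

namespace Cfsg.Agent.Lib.SylowNumber.TwentyTwo

open Subgroup

variable {S : Type*} [Group S] [Finite S] [IsSimpleGroup S] [Fact (Nat.Prime 3)]

theorem three_dvd_card (hn : Nat.card (Sylow 3 S) = 22) : 3 ∣ Nat.card S := by
  by_contra h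
  have hP : ∀ P : Sylow 3 S, (P : Subgroup S) = ⊥ := fun P => by
    obtain ⟨k, hk⟩ := P.2.exists_card_eq
    rcases Nat.eq_zero_or_pos k with rfl | hk0
    · exact eq_bot_of_card_eq _ hk
    · exact absurd ((dvd_pow_self 3 hk0.ne').trans (hk ▸ card_subgroup_dvd_card _)) h
  haveI : Subsingleton (Sylow 3 S) := ⟨fun P Q => Sylow.ext ((hP P).trans (hP Q).symm)⟩
  rw [Nat.card_of_subsingleton (default : Sylow 3 S)] at hn
  omega

/-- The action on the Sylow 3-subgroups is faithful. -/
theorem eq_one_of_forall_smul (hS : ¬ IsMulCommutative S) (hn : Nat.card (Sylow 3 S) = 22) {g : S}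
    (hg : ∀ Q : Sylow 3 S, g • Q = Q) : g = 1 := by
  have h1 : g ∈ (MulAction.toPermHom S (Sylow 3 S)).ker := Equiv.ext hg
  rcases (MonoidHom.normal_ker (MulAction.toPermHom S (Sylow 3 S))).eq_bot_or_eq_top with h | h
  · rwa [h, mem_bot] at h1
  · exfalso
    refine SmallGroups.normalizer_sylow_ne_top hS (three_dvd_card hn) default
      ((eq_top_iff' _).2 fun a => ?_)
    have h2 : a ∈ (MulAction.toPermHom S (Sylow 3 S)).ker := h ▸ mem_top a
    exact Sylow.smul_eq_iff_mem_normalizer.1 (Equiv.ext_iff.1 h2 default)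

/-- The points of a line other than `P`. -/
theorem ncard_line_mod (P : Sylow 3 S) {D : Subgroup S} (h : D ∈ dirs P) :
    (line D).ncard % 3 = 1 ∧ 2 ≤ (line D).ncard := by
  obtain ⟨Q, hQ, rfl⟩ := h
  have hD : (P : Subgroup S) ⊓ Q ∈ dirs P := ⟨Q, hQ, rfl⟩
  refine ⟨?_, ?_⟩
  · have h1 := ncard_modEq_fixed P.2 (line ((P : Subgroup S) ⊓ Q))
      (fun g hg R hR => smul_mem_line_of_mem hD hg hR)
    have h2 : {R ∈ line ((P : Subgroup S) ⊓ Q) | ∀ g ∈ (P : Subgroup S), g • R = R} = {P} := by
      ext R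
      constructor
      · rintro ⟨-, hfix⟩
        exact eq_of_le fun g hg => (smul_eq_iff hg R).1 (hfix g hg)
      · rintro rfl
        exact ⟨(inf_le_left : _ ≤ (_ : Subgroup S)), fun g hg => (smul_eq_iff hg _).2 hg⟩
    rw [h2, Set.ncard_singleton] at h1
    exact h1
  · rw [← Set.ncard_pair hQ.ne]
    refine Set.ncard_le_ncard ?_ (Set.toFinite _)
    rintro R (rfl | rfl)
    · exact (inf_le_right : (P : Subgroup S) ⊓ R ≤ R)
    · exact (inf_le_left : (R : Subgroup S) ⊓ Q ≤ R)

/-- The neighbours of `P` are partitioned by the lines through `P`. -/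
theorem ncard_adj (P : Sylow 3 S) [Fintype (Subgroup S)] [DecidablePred (· ∈ dirs P)] :
    {Q | Adj P Q}.ncard = ∑ D ∈ Finset.univ.filter (· ∈ dirs P), ((line D).ncard - 1) := by
  classical
  haveI := Fintype.ofFinite (Sylow 3 S)
  rw [show {Q | Adj P Q}.ncard = (Finset.univ.filter fun Q => Adj P Q).card by
    rw [← Set.ncard_coe_finset, Finset.coe_filter]; simp]
  rw [Finset.card_eq_sum_card_fiberwise (f := fun Q : Sylow 3 S => (P : Subgroup S) ⊓ Q)
    (t := Finset.univ.filter (· ∈ dirs P))]
  · refine Finset.sum_congr rfl fun D hD => ?_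
    have hD' : D ∈ dirs P := (Finset.mem_filter.1 hD).2
    rw [← Set.ncard_sdiff_singleton_of_mem (show P ∈ line D from (mem_dirs hD').1),
      ← Set.ncard_coe_finset]
    congr 1
    ext Q
    simp only [Finset.coe_filter, Finset.mem_filter, Finset.mem_univ, true_and, Set.mem_ofPred_eq,
      Set.mem_sdiff, Set.mem_singleton_iff]
    constructor
    · rintro ⟨h1, rfl⟩
      exact ⟨(inf_le_right : (P : Subgroup S) ⊓ Q ≤ Q), h1.ne⟩
    · rintro ⟨h1, h2⟩
      exact line_spec hD' h1 h2
  · intro Q hQ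
    simp only [Finset.coe_filter, Finset.mem_univ, true_and, Set.mem_ofPred_eq] at hQ ⊢
    exact ⟨Q, hQ, rfl⟩

/-- Points at distance 9 from `P`. -/
def far (P : Sylow 3 S) : Set (Sylow 3 S) :=
  {Q | ((P : Subgroup S) ⊓ Q).relIndex (P : Subgroup S) = 9}

theorem smul_mem_far {P : Sylow 3 S} {g : S} (hg : g ∈ (P : Subgroup S)) {Q : Sylow 3 S}
    (hQ : Q ∈ far P) : g • Q ∈ far P := by
  show _ = 9
  rw [← ncard_orbit,
    show g • Q = (⟨g, hg⟩ : (P : Subgroup S)) • Q from rfl, MulAction.orbit_smul, ncard_orbit]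
  exact hQ

theorem ncard_adj_add_far (hn : Nat.card (Sylow 3 S) = 22) (P : Sylow 3 S) :
    {Q | Adj P Q}.ncard + (far P).ncard = 21 ∧ 9 ∣ (far P).ncard := by
  refine ⟨?_, dvd_ncard_of_orbits (P : Subgroup S) 9 (far P) (fun g hg Q hQ => smul_mem_far hg hQ)
    (fun Q hQ => (ncard_orbit P Q).trans hQ)⟩
  have hd : Disjoint {Q | Adj P Q} (far P) := Set.disjoint_left.2 fun Q h1 h2 => by
    change _ = 3 at h1
    change _ = 9 at h2
    omega
  have he : {Q | Adj P Q} ∪ far P = ({P} : Set (Sylow 3 S))ᶜ := by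
    ext Q
    constructor
    · rintro (h | h) (rfl : Q = P)
      · exact h.ne rfl
      · change _ = 9 at h
        rw [inf_idem, relIndex_self] at h
        omega
    · exact fun h => relIndex_cases hn h
  rw [← Set.ncard_union_eq hd (Set.toFinite _) (Set.toFinite _), he, Set.ncard_compl, hn,
    Set.ncard_singleton]

/-- Either Sylow 3-subgroups have order 3 or there are four lines of four points at each point. -/
theorem card_three_or_lines (hS : ¬ IsMulCommutative S) (hn : Nat.card (Sylow 3 S) = 22)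
    (P : Sylow 3 S) : Nat.card (P : Subgroup S) = 3 ∨
      ((∀ D ∈ dirs P, (line D).ncard = 4) ∧ (dirs P).ncard = 4 ∧ (far P).ncard = 9) := by
  classical
  haveI := Fintype.ofFinite (Subgroup S)
  rw [or_iff_not_imp_left]
  intro h3
  obtain ⟨hsum, h9⟩ := ncard_adj_add_far hn P
  rw [ncard_adj] at hsum
  have h4 : ∀ D ∈ dirs P, (line D).ncard = 4 := by
    intro D hD
    obtain ⟨hmod, h2⟩ := ncard_line_mod P hD
    set k := (line D).ncard with hk
    have hk22 : k ≤ 22 := by
      rw [hk, ← hn, ← Set.ncard_univ]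
      exact Set.ncard_le_ncard (Set.subset_univ _) Set.finite_univ
    have hne22 : k ≠ 22 := by
      intro h
      have huniv : line D = Set.univ := Set.eq_of_subset_of_ncard_le (Set.subset_univ _)
        (by rw [Set.ncard_univ, hn, ← h]) Set.finite_univ
      have hbot : D = ⊥ := eq_bot_iff.2 fun d hd => mem_bot.2 (eq_one_of_forall_smul hS hn
        fun Q => Sylow.smul_eq_iff_mem_normalizer.2
          (le_normalizer ((huniv.symm ▸ Set.mem_univ Q : Q ∈ line D) hd)))
      have := (mem_dirs hD).2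
      rw [hbot, relIndex_bot_left] at this
      exact h3 this
    have hdvd := dvd_mul_ncard_dirs hn k P
    set m := {D' ∈ dirs P | (line D').ncard = k}.ncard with hm
    have hm1 : 1 ≤ m := (Set.ncard_pos (Set.toFinite _)).2 ⟨D, hD, rfl⟩
    have hmle : m * (k - 1) ≤ 21 := by
      have e : m = ((Finset.univ.filter (· ∈ dirs P)).filter fun D' => (line D').ncard = k).card := by
        rw [hm, ← Set.ncard_coe_finset]
        congr 1
        ext
        simp
      rw [e, ← smul_eq_mul, ← Finset.sum_const]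
      refine le_trans ?_ (le_trans (Nat.le_add_right _ _) hsum.le)
      refine le_trans (le_of_eq ?_) (Finset.sum_le_sum_of_subset (Finset.filter_subset (fun D' => (line D').ncard = k) _))
      exact Finset.sum_congr rfl fun D' hD' => by rw [(Finset.mem_filter.1 hD').2]
    interval_cases k <;> first | omega | (interval_cases m <;> omega)
  refine ⟨h4, ?_⟩
  have hall : {D ∈ dirs P | (line D).ncard = 4} = dirs P := by
    ext D; exact ⟨And.left, fun h => ⟨h, h4 D h⟩⟩
  have hdvd := dvd_mul_ncard_dirs hn 4 P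
  rw [hall] at hdvd
  have hcard : (Finset.univ.filter (· ∈ dirs P)).card = (dirs P).ncard := by
    rw [← Set.ncard_coe_finset]; simp
  rw [Finset.sum_congr rfl (fun D hD => by rw [h4 D (Finset.mem_filter.1 hD).2]),
    Finset.sum_const, hcard, smul_eq_mul] at hsum
  obtain ⟨f, hf⟩ := h9
  constructor <;> omega

end Cfsg.Agent.Lib.SylowNumber.TwentyTwo
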