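import Cfsg.Agent.Lib.SylowNumber.TwentyTwo.Count

/-!
Four lines of four points through each of 22 points: the structure of a Sylow 3-subgroup.
-/

set_option autoImplicit false
set_option linter.style.haveILetI false
set_option linter.unusedSectionVars false

namespace Cfsg.Agent.Lib.SylowNumber.TwentyTwo

open Subgroup
open scoped Pointwise commutatorElement

variable {S : Type*} [Group S] [Finite S] [IsSimpleGroup S] [Fact (Nat.Prime 3)]

/-- The line hypotheses. -/
structure FourLines (S : Type*) [Group S] : Prop where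
  notComm : ¬ IsMulCommutative S
  card : Nat.card (Sylow 3 S) = 22
  lines : ∀ (P : Sylow 3 S), ∀ D ∈ dirs P, (line D).ncard = 4
  count : ∀ P : Sylow 3 S, (dirs P).ncard = 4
  farCard : ∀ P : Sylow 3 S, (far P).ncard = 9

namespace FourLines

variable (h : FourLines S)
include h

/-- Only the identity lies in all the directions at `P`. -/
theorem eq_one_of_mem_dirs (P : Sylow 3 S) {e : S} (he : ∀ D ∈ dirs P, e ∈ D) : e = 1 := by
  classical
  have hne : (dirs P).Nonempty := Set.nonempty_of_ncard_ne_zero (by rw [h.count]; norm_num)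
  obtain ⟨D0, hD0⟩ := hne
  have heP : e ∈ (P : Subgroup S) := (mem_dirs hD0).1 (he D0 hD0)
  have hadj : ∀ Q, Adj P Q → e • Q = Q := fun Q hQ =>
    (smul_eq_iff heP Q).2 (he _ ⟨Q, hQ, rfl⟩).2
  by_contra h1
  obtain ⟨R, hR⟩ : ∃ R, e • R ≠ R := by
    by_contra hall
    push Not at hall
    exact h1 (eq_one_of_forall_smul h.notComm h.card hall)
  have hRP : R ≠ P := by
    rintro rfl
    exact hR ((smul_eq_iff heP _).2 heP)
  have hRfar : R ∈ far P := by
    rcases relIndex_cases h.card hRP with h' | h'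
    · exact absurd (hadj R h') hR
    · exact h'
  set D1 := (R : Subgroup S) ⊓ ((e • R : Sylow 3 S) : Subgroup S) with hD1
  -- lines through `R` leaving the far points pass through `e • R`
  have hbad : ∀ D ∈ dirs R, D ≠ D1 → line D \ {R} ⊆ far P \ {R} := by
    intro D hD hne Q hQ
    refine ⟨?_, hQ.2⟩
    by_contra hfar
    have hQR : Q ≠ R := hQ.2
    have hQP : Q ≠ P := by
      rintro rfl
      have h3 := (line_spec hD hQ.1 hQR).1.symm
      change _ = 3 at h3
      change _ = 9 at hRfar
      omega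
    have hPQ : Adj P Q := (relIndex_cases h.card hQP).resolve_right hfar
    have heQ : e ∈ (Q : Subgroup S) := (he _ ⟨Q, hPQ, rfl⟩).2
    have hR' : e • R ∈ line D := smul_mem_line_of_mem (mem_dirs_of_mem_line hD hQ.1) heQ
      (show R ∈ line D from (mem_dirs hD).1)
    exact hne (line_spec hD hR' hR).2.symm
  haveI := Fintype.ofFinite (Subgroup S)
  haveI := Fintype.ofFinite (Sylow 3 S)
  set good := (dirs R).toFinset.erase D1 with hgood
  have hg3 : 3 ≤ good.card := by
    have := Finset.pred_card_le_card_erase (a := D1) (s := (dirs R).toFinset)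
    rw [← Set.ncard_eq_toFinset_card', h.count] at this
    exact this
  have hdisj : (good : Set (Subgroup S)).PairwiseDisjoint fun D => (line D).toFinset.erase R := by
    intro D hD D' hD' hne
    refine Finset.disjoint_left.2 fun Q hQ hQ' => hne ?_
    simp only [Finset.mem_erase, Set.mem_toFinset] at hQ hQ'
    simp only [hgood, Finset.coe_erase, Set.coe_toFinset, Set.mem_sdiff] at hD hD'
    exact (line_spec hD.1 hQ.2 hQ.1).2.symm.trans (line_spec hD'.1 hQ'.2 hQ'.1).2
  have hsub : good.biUnion (fun D => (line D).toFinset.erase R) ⊆ (far P).toFinset.erase R := by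
    intro Q hQ
    simp only [Finset.mem_biUnion, hgood, Finset.mem_erase, Set.mem_toFinset] at hQ ⊢
    obtain ⟨D, ⟨hD1', hD⟩, hQR, hQD⟩ := hQ
    exact ⟨hQR, (hbad D hD hD1' ⟨hQD, hQR⟩).1⟩
  have hc := Finset.card_le_card hsub
  rw [Finset.card_biUnion hdisj, Finset.card_erase_of_mem (Set.mem_toFinset.2 hRfar),
    ← Set.ncard_eq_toFinset_card', h.farCard, Finset.sum_const_nat (m := 3)] at hc
  · omega
  · intro D hD
    simp only [hgood, Finset.mem_erase, Set.mem_toFinset] at hD
    rw [Finset.card_erase_of_mem (Set.mem_toFinset.2 (show R ∈ line D from (mem_dirs hD.2).1)),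
      ← Set.ncard_eq_toFinset_card', h.lines R D hD.2]

omit h in
theorem normal_subgroupOf {P : Sylow 3 S} {D : Subgroup S} (hD : D ∈ dirs P) :
    (D.subgroupOf (P : Subgroup S)).Normal :=
  ⟨fun d hd g => mem_subgroupOf.2 (conj_mem_of_mem_dirs hD g.2 (mem_subgroupOf.1 hd))⟩

/-- The Sylow 3-subgroups are elementary abelian. -/
theorem elementary (P : Sylow 3 S) {a b : S} (ha : a ∈ (P : Subgroup S))
    (hb : b ∈ (P : Subgroup S)) : a * b = b * a ∧ a ^ 3 = 1 := by
  constructor
  · rw [← commutatorElement_eq_one_iff_mul_comm]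
    refine h.eq_one_of_mem_dirs P fun D hD => ?_
    haveI := normal_subgroupOf hD
    haveI : IsCyclic ((P : Subgroup S) ⧸ D.subgroupOf (P : Subgroup S)) :=
      isCyclic_of_prime_card (p := 3) (mem_dirs hD).2
    have h1 : ⁅(⟨a, ha⟩ : (P : Subgroup S)), (⟨b, hb⟩ : (P : Subgroup S))⁆ ∈
        D.subgroupOf (P : Subgroup S) := by
      rw [← QuotientGroup.eq_one_iff]
      show QuotientGroup.mk' _ _ = 1
      rw [map_commutatorElement, commutatorElement_eq_one_iff_mul_comm]
      letI := IsCyclic.commGroup (α := (P : Subgroup S) ⧸ D.subgroupOf (P : Subgroup S))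
      exact mul_comm _ _
    exact mem_subgroupOf.1 h1
  · refine h.eq_one_of_mem_dirs P fun D hD => ?_
    haveI := normal_subgroupOf hD
    have h1 : (⟨a, ha⟩ : (P : Subgroup S)) ^ 3 ∈ D.subgroupOf (P : Subgroup S) := by
      rw [← QuotientGroup.eq_one_iff, QuotientGroup.mk_pow]
      have h2 : Nat.card ((P : Subgroup S) ⧸ D.subgroupOf (P : Subgroup S)) = 3 := (mem_dirs hD).2
      have h3' := pow_card_eq_one' (x := ((⟨a, ha⟩ : (P : Subgroup S)) :
        (P : Subgroup S) ⧸ D.subgroupOf (P : Subgroup S)))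
      rwa [h2] at h3'
    exact mem_subgroupOf.1 h1

/-- The Sylow 3-subgroups have order 9, 27 or 81. -/
theorem card_sylow (P : Sylow 3 S) :
    ∃ s, 2 ≤ s ∧ s ≤ 4 ∧ Nat.card (P : Subgroup S) = 3 ^ s := by
  classical
  haveI := Fintype.ofFinite (dirs P)
  obtain ⟨s, hs⟩ := P.2.exists_card_eq
  obtain ⟨R, hR⟩ : (far P).Nonempty := Set.nonempty_of_ncard_ne_zero (by rw [h.farCard]; norm_num)
  refine ⟨s, ?_, ?_, hs⟩
  · have h9 : 3 ^ 2 ∣ 3 ^ s := by
      have e := card_mul_relIndex_self (inf_le_left : (P : Subgroup S) ⊓ R ≤ P)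
      change ((P : Subgroup S) ⊓ R).relIndex (P : Subgroup S) = 9 at hR
      rw [hR] at e
      rw [← hs, ← e]
      exact Dvd.intro_left _ rfl
    exact (Nat.pow_dvd_pow_iff_le_right (by norm_num)).1 h9
  · have hle : Nat.card (P : Subgroup S) ≤
        Nat.card ((D : dirs P) → (P : Subgroup S) ⧸ (D : Subgroup S).subgroupOf (P : Subgroup S)) := by
      refine Nat.card_le_card_of_injective
        (fun a D => (a : (P : Subgroup S) ⧸ (D : Subgroup S).subgroupOf (P : Subgroup S))) ?_
      intro a b hab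
      have h1 : ((a : S)⁻¹ * b) = 1 := h.eq_one_of_mem_dirs P fun D hD =>
        mem_subgroupOf.1 (QuotientGroup.eq.1 (congrFun hab ⟨D, hD⟩))
      exact Subtype.ext (inv_mul_eq_one.1 h1)
    rw [Nat.card_pi, Finset.prod_congr rfl fun (D : dirs P) _ => (show Nat.card ((P : Subgroup S) ⧸
      (D : Subgroup S).subgroupOf (P : Subgroup S)) = 3 from (mem_dirs D.2).2), Finset.prod_const,
      Finset.card_univ, Fintype.card_eq_nat_card, Nat.card_coe_set_eq, h.count, hs] at hle
    exact (Nat.pow_le_pow_iff_right (by norm_num)).1 hle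

omit h in
theorem smul_mem_far_of_fix (hn : Nat.card (Sylow 3 S) = 22) {P : Sylow 3 S} {g : S}
    (hg : g • P = P) {Q : Sylow 3 S} (hQ : Q ∈ far P) : g • Q ∈ far P := by
  have hne : g • Q ≠ P := by
    intro h'
    rw [← hg] at h'
    have := MulAction.injective g h'
    subst this
    change _ = 9 at hQ
    rw [inf_idem, relIndex_self] at hQ
    omega
  refine (relIndex_cases hn hne).resolve_left fun h' => ?_
  have h'' := h'.smul g⁻¹
  rw [inv_smul_smul, ← hg, inv_smul_smul] at h''
  change _ = 3 at h''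
  change _ = 9 at hQ
  omega

/-- The Sylow 3-subgroups are self-centralising. -/
theorem centralizer_eq (P : Sylow 3 S) :
    centralizer ((P : Subgroup S) : Set S) = (P : Subgroup S) := by
  set C := centralizer ((P : Subgroup S) : Set S) with hC
  have hPC : (P : Subgroup S) ≤ C := fun a ha =>
    mem_centralizer_iff.2 fun b hb => (h.elementary P hb ha).1
  refine P.is_maximal' ?_ hPC
  refine IsPGroup.of_card (n := (Nat.card C).primeFactorsList.length)
    (Nat.eq_prime_pow_of_unique_prime_dvd (p := 3) Nat.card_pos.ne' ?_)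
  intro r hr hrd
  by_contra hr3
  haveI : Fact r.Prime := ⟨hr⟩
  obtain ⟨⟨c, hcC⟩, hc⟩ := exists_prime_orderOf_dvd_card' r hrd
  rw [Subgroup.orderOf_mk] at hc
  have hcom : ∀ g ∈ (P : Subgroup S), Commute c g := fun g hg =>
    (mem_centralizer_iff.1 hcC g hg).symm
  have hcP : c • P = P := Sylow.smul_eq_iff_mem_normalizer.2 (centralizer_le_normalizer _ hcC)
  have hfix : ∀ (Q : Sylow 3 S), c • Q ∈ MulAction.orbit (P : Subgroup S) Q → c • Q = Q := by
    rintro Q ⟨g, hg⟩
    refine fixed_of_commute (r := r) ?_ (hcom g g.2) ?_ hg.symm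
    · rw [← hc, pow_orderOf_eq_one]
    · exact Nat.Coprime.coprime_dvd_right (orderOf_dvd_of_pow_eq_one (h.elementary P g.2 g.2).2)
        ((Nat.coprime_primes hr Fact.out).2 hr3)
  have h1 : c = 1 := by
    refine eq_one_of_forall_smul h.notComm h.card fun Q => ?_
    rcases eq_or_ne Q P with rfl | hQ
    · exact hcP
    refine hfix Q ?_
    rcases relIndex_cases h.card hQ with hadj | hfar
    · have hD : (P : Subgroup S) ⊓ Q ∈ dirs P := ⟨Q, hadj, rfl⟩
      have hQD : Q ∈ line ((P : Subgroup S) ⊓ Q) := (inf_le_right : (P : Subgroup S) ⊓ Q ≤ Q)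
      have hsub : MulAction.orbit (P : Subgroup S) Q ⊆ line ((P : Subgroup S) ⊓ Q) \ {P} := by
        rintro _ ⟨g, rfl⟩
        refine ⟨smul_mem_line_of_mem hD g.2 hQD, fun h' => hQ ?_⟩
        refine MulAction.injective (g : S) ?_
        show (g : S) • Q = (g : S) • P
        rw [show (g : S) • Q = P from h', Sylow.smul_eq_iff_mem_normalizer.2 (le_normalizer g.2)]
      rw [Set.eq_of_subset_of_ncard_le hsub (by
        rw [Set.ncard_sdiff_singleton_of_mem (show P ∈ line _ from (inf_le_left :
          (P : Subgroup S) ⊓ Q ≤ P)), h.lines P _ hD, ncard_orbit, hadj]) (Set.toFinite _)]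
      refine ⟨smul_mem_line (fun d hd => ?_) hQD, fun h' => hQ ?_⟩
      · have := (hcom d hd.1).eq
        rw [mul_assoc, ← this, inv_mul_cancel_left]
        exact hd
      · exact MulAction.injective c ((show c • Q = P from h').trans hcP.symm)
    · rw [Set.eq_of_subset_of_ncard_le (s := MulAction.orbit (P : Subgroup S) Q) (t := far P)
        (by rintro _ ⟨g, rfl⟩; exact smul_mem_far g.2 hfar)
        (by rw [h.farCard, ncard_orbit, hfar]) (Set.toFinite _)]
      exact smul_mem_far_of_fix h.card hcP hfar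
  rw [h1, orderOf_one] at hc
  exact hr.ne_one hc.symm

end FourLines

end Cfsg.Agent.Lib.SylowNumber.TwentyTwo
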