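import Mathlib

/-!
There are no permutation groups of degree 7 of order 35, 112, 280 or 560.
-/

set_option autoImplicit false
set_option linter.style.haveILetI false

namespace Cfsg.Agent.Lib.SylowNumber.TwentyTwo

open Subgroup Equiv

/-- In degree 7, nothing of order 5 commutes with an element of order 7. -/
theorem not_commute_five_seven {X : Type*} [Finite X] (hX : Nat.card X = 7) (x c : Perm X)
    (hx : orderOf x = 7) (hc : orderOf c = 5) : ¬ Commute c x := by
  classical
  intro hcx
  haveI : Fact (Nat.Prime 7) := ⟨by norm_num⟩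
  have hfree : ∀ y : X, ∀ i : ℕ, i < 7 → x ^ i • y = y → i = 0 := by
    intro y i hi hy
    by_contra h0
    have h1 : x ∈ MulAction.stabilizer (Perm X) y := by
      have hcop : (orderOf x).Coprime i := by
        rw [hx]
        exact (Fact.out : Nat.Prime 7).coprime_iff_not_dvd.2 (Nat.not_dvd_of_pos_of_lt (by omega) hi)
      obtain ⟨m, hm⟩ := exists_pow_eq_self_of_coprime hcop.symm
      rw [← hm]
      exact pow_mem (show x ^ i ∈ MulAction.stabilizer (Perm X) y from hy) m
    have hp : IsPGroup 7 (zpowers x) :=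
      IsPGroup.of_card (n := 1) (by rw [Nat.card_zpowers, hx, pow_one])
    have h2 := hp.card_modEq_card_fixedPoints X
    rw [hX] at h2
    have h3 : Nat.card (MulAction.fixedPoints (zpowers x) X) = 7 := by
      have hle : Nat.card (MulAction.fixedPoints (zpowers x) X) ≤ 7 :=
        hX ▸ Nat.card_le_card_of_injective _ Subtype.val_injective
      have hne : Nat.card (MulAction.fixedPoints (zpowers x) X) ≠ 0 := by
        haveI : Nonempty (MulAction.fixedPoints (zpowers x) X) :=
          ⟨⟨y, fun g => (zpowers_le.2 h1 g.2 : (g : Perm X) ∈ MulAction.stabilizer (Perm X) y)⟩⟩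
        exact Nat.card_pos.ne'
      have h4 := Nat.modEq_zero_iff_dvd.1 (h2.symm.trans (by decide : 7 ≡ 0 [MOD 7]))
      omega
    have h5 : MulAction.fixedPoints (zpowers x) X = Set.univ := Set.eq_of_subset_of_ncard_le
      (Set.subset_univ _) (by rw [Set.ncard_univ, hX, ← Nat.card_coe_set_eq, h3]) Set.finite_univ
    have h6 : x = 1 := Perm.ext fun z =>
      ((h5.symm ▸ Set.mem_univ z : z ∈ MulAction.fixedPoints (zpowers x) X) ⟨x, mem_zpowers x⟩)
    rw [h6, orderOf_one] at hx
    omega
  haveI : Nonempty X := (Nat.card_pos_iff.1 (by omega)).1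
  obtain ⟨a⟩ := ‹Nonempty X›
  have hbij : Function.Bijective fun i : Fin 7 => x ^ (i : ℕ) • a := by
    rw [Nat.bijective_iff_injective_and_card]
    refine ⟨?_, by rw [Nat.card_fin, hX]⟩
    have key : ∀ i j : ℕ, i ≤ j → j < 7 → x ^ i • a = x ^ j • a → i = j := by
      intro i j hij hj h
      have h1 : x ^ i • (x ^ (j - i) • a) = x ^ i • a := by
        rw [← mul_smul, ← pow_add, Nat.add_sub_cancel' hij, h]
      have := hfree a (j - i) (by omega) (MulAction.injective (x ^ i) h1)
      omega
    intro i j h
    rcases le_total (i : ℕ) j with hij | hij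
    · exact Fin.ext (key i j hij j.2 h)
    · exact Fin.ext (key j i hij i.2 h.symm).symm
  obtain ⟨i, hi⟩ := hbij.surjective (c • a)
  have hci : c = x ^ (i : ℕ) := by
    refine Perm.ext fun y => ?_
    obtain ⟨j, rfl⟩ := hbij.surjective y
    show c • (x ^ (j : ℕ) • a) = x ^ (i : ℕ) • (x ^ (j : ℕ) • a)
    rw [← mul_smul, (hcx.pow_right (j : ℕ)).eq, mul_smul, ← hi, ← mul_smul, ← mul_smul, ← pow_add,
      ← pow_add, add_comm]
  have h7 : c ^ 7 = 1 := by
    have h0 : x ^ 7 = 1 := by rw [← hx]; exact pow_orderOf_eq_one x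
    rw [hci, ← pow_mul, mul_comm, pow_mul, h0, one_pow]
  have := orderOf_dvd_of_pow_eq_one h7
  rw [hc] at this
  omega

theorem no_subgroup_perm_seven {X : Type*} [Finite X] (hX : Nat.card X = 7)
    (H : Subgroup (Perm X)) (hH : Nat.card H = 35 ∨ Nat.card H = 112 ∨ Nat.card H = 280 ∨
      Nat.card H = 560) : False := by
  classical
  haveI := Fintype.ofFinite X
  haveI : Fact (Nat.Prime 7) := ⟨by norm_num⟩
  haveI : Fact (Nat.Prime 2) := ⟨Nat.prime_two⟩
  have hcard : Nat.card (Perm X) = 5040 := by rw [Nat.card_perm, hX]; rfl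
  rcases (show (16 ∣ Nat.card H) ∨ (Nat.card H = 35 ∨ Nat.card H = 280) by
      rcases hH with h | h | h | h <;> rw [h] <;> norm_num) with h16 | hw
  · -- `H` contains a transposition
    obtain ⟨P⟩ := (inferInstance : Nonempty (Sylow 2 H))
    have hP16 : 16 ∣ Nat.card (P : Subgroup H) := by
      have := P.pow_dvd_card_of_pow_dvd_card (n := 4) h16
      simpa using this
    obtain ⟨Q, hQ⟩ := (P.2.map H.subtype).exists_le_sylow
    have hQc : Nat.card (Q : Subgroup (Perm X)) = 16 := by
      rw [Q.card_eq_multiplicity, hcard, show (5040 : ℕ) = 2 ^ 4 * 315 by norm_num,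
        Nat.factorization_mul (by norm_num) (by norm_num)]
      rw [Finsupp.add_apply, Nat.Prime.factorization_pow Nat.prime_two, Finsupp.single_eq_same,
        Nat.factorization_eq_zero_of_not_dvd (show ¬ 2 ∣ 315 by norm_num)]
      norm_num
    have hQH : (Q : Subgroup (Perm X)) ≤ H := by
      rw [← eq_of_le_of_card_ge hQ ?_]
      · exact map_subtype_le _
      · rw [hQc, Nat.card_congr ((P : Subgroup H).equivMapOfInjective _ H.subtype_injective).toEquiv.symm]
        exact Nat.le_of_dvd Nat.card_pos hP16
    -- a swap in the Sylow subgroup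
    obtain ⟨a, b, hab⟩ : ∃ a b : X, a ≠ b :=
      Fintype.exists_pair_of_one_lt_card (by rw [Fintype.card_eq_nat_card, hX]; norm_num)
    have hsw : IsPGroup 2 (zpowers (swap a b)) := IsPGroup.of_card (n := 1) (by
      rw [Nat.card_zpowers, orderOf_eq_prime (by rw [sq, swap_mul_self]) ?_, pow_one]
      intro h
      exact hab (swap_eq_one_iff.1 h))
    obtain ⟨R, hR⟩ := hsw.exists_le_sylow
    obtain ⟨g, rfl⟩ := MulAction.exists_smul_eq (Perm X) Q R
    have hmem := hR (mem_zpowers (swap a b))
    rw [Sylow.coe_subgroup_smul, Subgroup.mem_pointwise_smul_iff_inv_smul_mem, ← map_inv] at hmem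
    have hmem' : swap (g⁻¹ a) (g⁻¹ b) ∈ H := hQH (by
      have e : swap (g⁻¹ a) (g⁻¹ b) = g⁻¹ * swap a b * g := by
        rw [swap_apply_apply, inv_inv]
      rw [e]; simpa using hmem)
    have htop := Equiv.Perm.subgroup_eq_top_of_swap_mem (H := H)
      (by rw [Fintype.card_eq_nat_card, hX]; norm_num)
      (by
        rw [Fintype.card_eq_nat_card, hX, Fintype.card_eq_nat_card]
        rcases hH with h | h | h | h <;> rw [h] <;> norm_num)
      hmem' ⟨g⁻¹ a, g⁻¹ b, fun h => hab (g⁻¹.injective h), rfl⟩
    rw [htop, card_top, hcard] at hH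
    omega
  · -- an element of order 5 centralises an element of order 7
    haveI : Fact (Nat.Prime 5) := ⟨by norm_num⟩
    obtain ⟨P⟩ := (inferInstance : Nonempty (Sylow 7 H))
    have hc7 : Nat.card (P : Subgroup H) = 7 := by
      rw [P.card_eq_multiplicity]
      rcases hw with h | h <;> rw [h]
      · rw [show (35 : ℕ) = 7 ^ 1 * 5 by norm_num, Nat.factorization_mul (by norm_num) (by norm_num)]
        simp [(Fact.out : Nat.Prime 7).factorization_self,
          Nat.factorization_eq_zero_of_not_dvd (show ¬ 7 ∣ 5 by norm_num)]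
      · rw [show (280 : ℕ) = 7 ^ 1 * 40 by norm_num, Nat.factorization_mul (by norm_num) (by norm_num)]
        simp [(Fact.out : Nat.Prime 7).factorization_self,
          Nat.factorization_eq_zero_of_not_dvd (show ¬ 7 ∣ 40 by norm_num)]
    set N := normalizer ((P : Subgroup H) : Set H) with hN
    have h5 : 5 ∣ Nat.card N := by
      have h1 := card_sylow_modEq_one 7 H
      have h2 := P.card_dvd_index
      have h3 := (P : Subgroup H).card_mul_index
      have h4 : N.index = Nat.card (Sylow 7 H) := P.card_eq_index_normalizer.symm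
      have h5 := N.card_mul_index
      rw [h4] at h5
      have h6 : 5 ∣ Nat.card N * Nat.card (Sylow 7 H) := by
        rw [h5]; rcases hw with h | h <;> rw [h] <;> norm_num
      rcases (Fact.out : Nat.Prime 5).dvd_mul.1 h6 with h | h
      · exact h
      · exfalso
        have h7 : Nat.card (Sylow 7 H) ∣ 40 := by
          refine h2.trans ?_
          rw [hc7] at h3
          rcases hw with h | h <;> rw [h] at h3
          · exact ⟨8, by omega⟩
          · exact ⟨1, by omega⟩
        have h8 : Nat.card (Sylow 7 H) ≤ 40 := Nat.le_of_dvd (by norm_num) h7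
        rw [Nat.ModEq] at h1
        interval_cases hn7 : Nat.card (Sylow 7 H) <;> omega
    obtain ⟨c, hc⟩ := exists_prime_orderOf_dvd_card' 5 h5
    obtain ⟨x, hx⟩ := exists_prime_orderOf_dvd_card' (G := (P : Subgroup H)) 7 (by rw [hc7])
    have hPz : (P : Subgroup H) = zpowers (x : H) := (eq_of_le_of_card_ge (zpowers_le.2 x.2)
      (by rw [hc7, Nat.card_zpowers, Subgroup.orderOf_coe, hx])).symm
    -- the automorphism group of the subgroup of order 7 has order 6
    have hcomm : (c : H) * x = x * c := by
      have h1 : normalizerMonoidHom (P : Subgroup H) c = 1 := by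
        refine orderOf_eq_one_iff.1 (Nat.dvd_one.1 ?_)
        have ha := orderOf_map_dvd (normalizerMonoidHom (P : Subgroup H)) c
        rw [hc] at ha
        have hb : orderOf (normalizerMonoidHom (P : Subgroup H) c) ∣ 6 := by
          haveI : IsCyclic (P : Subgroup H) := isCyclic_of_prime_card hc7
          have := orderOf_dvd_natCard (normalizerMonoidHom (P : Subgroup H) c)
          rwa [IsCyclic.card_mulAut, hc7, Nat.totient_prime (Fact.out : Nat.Prime 7)] at this
        exact (Nat.dvd_gcd ha hb).trans (by norm_num)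
      have h2 : (c : H) * x * (c : H)⁻¹ = x := congrArg Subtype.val (DFunLike.congr_fun h1 x)
      exact mul_inv_eq_iff_eq_mul.1 h2
    refine not_commute_five_seven hX ((x : H) : Perm X) ((c : H) : Perm X) ?_ ?_
      (congrArg Subtype.val hcomm)
    · rw [Subgroup.orderOf_coe, Subgroup.orderOf_coe, hx]
    · rw [Subgroup.orderOf_coe, Subgroup.orderOf_coe, hc]

end Cfsg.Agent.Lib.SylowNumber.TwentyTwo
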