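import Cfsg.Agent.Lib.SylowNumber.TwentyTwo.Eleven
import Cfsg.Agent.Lib.SylowNumber.TwentyTwo.PermSeven

/-!
Sylow 3-subgroups of order 3: the orders 264 and 660.
-/

set_option autoImplicit false
set_option linter.style.haveILetI false
set_option linter.unusedSectionVars false

namespace Cfsg.Agent.Lib.SylowNumber.TwentyTwo

open Subgroup
open scoped Pointwise

variable {S : Type*} [Group S] [Finite S]

/-- A prime order Sylow subgroup is generated by each of its nontrivial elements. -/
theorem zpowers_eq_of_mem {q : ℕ} [Fact q.Prime] {T : Sylow q S}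
    (hT : Nat.card (T : Subgroup S) = q) {g : S} (hg : g ∈ (T : Subgroup S)) (hg1 : g ≠ 1) :
    zpowers g = (T : Subgroup S) ∧ orderOf g = q := by
  have h2 := orderOf_dvd_natCard (⟨g, hg⟩ : (T : Subgroup S))
  rw [Subgroup.orderOf_mk, hT] at h2
  have h3 : orderOf g = q := (((Fact.out : q.Prime).eq_one_or_self_of_dvd _) h2).resolve_left
    fun h => hg1 (orderOf_eq_one_iff.1 h)
  exact ⟨eq_of_le_of_card_ge (zpowers_le.2 hg) (by rw [hT, Nat.card_zpowers, h3]), h3⟩

/-- Counting elements of prime order `q` when the Sylow `q`-subgroups have order `q`. -/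
theorem mul_le_ncard_orderOf {q : ℕ} [Fact q.Prime]
    (hT : ∀ T : Sylow q S, Nat.card (T : Subgroup S) = q) :
    Nat.card (Sylow q S) * (q - 1) ≤ {g : S | orderOf g = q}.ncard := by
  classical
  haveI := Fintype.ofFinite (Sylow q S)
  rw [← Nat.card_coe_set_eq]
  have hc : Nat.card (Σ T : Sylow q S, {g : (T : Subgroup S) // g ≠ 1}) =
      Nat.card (Sylow q S) * (q - 1) := by
    rw [Nat.card_sigma, Finset.sum_const_nat (m := q - 1), Finset.card_univ,
      Fintype.card_eq_nat_card]
    intro T _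
    haveI := Fintype.ofFinite (T : Subgroup S)
    rw [Nat.card_eq_fintype_card, Fintype.card_subtype_compl, Fintype.card_subtype_eq,
      ← Nat.card_eq_fintype_card, hT]
  rw [← hc]
  refine Nat.card_le_card_of_injective (fun w => (⟨(w.2.1 : S),
    (zpowers_eq_of_mem (hT w.1) w.2.1.2 fun h => w.2.2 (Subtype.ext h)).2⟩ :
    {g : S | orderOf g = q})) ?_
  rintro ⟨T, ⟨g, hg⟩, hg1⟩ ⟨U, ⟨k, hk⟩, hk1⟩ h
  obtain rfl : g = k := congrArg Subtype.val h
  obtain rfl : T = U := Sylow.ext
    ((zpowers_eq_of_mem (hT T) hg fun h => hg1 (Subtype.ext h)).1.symm.trans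
      (zpowers_eq_of_mem (hT U) hk fun h => hk1 (Subtype.ext h)).1)
  rfl

variable [IsSimpleGroup S] [Fact (Nat.Prime 3)] [Fact (Nat.Prime 11)]

/-- No such group of order 264. -/
theorem not_card_264 (hS : ¬ IsMulCommutative S) (hn : Nat.card (Sylow 3 S) = 22)
    (h3 : ∀ P : Sylow 3 S, Nat.card (P : Subgroup S) = 3)
    (h11 : ∀ P : Sylow 3 S, ¬ 11 ∣ Nat.card (normalizer ((P : Subgroup S) : Set S)))
    (hC : ∀ P : Sylow 3 S, 2 ∣ Nat.card (centralizer ((P : Subgroup S) : Set S)))
    (hS264 : Nat.card S = 264) (hn11 : Nat.card (Sylow 11 S) = 12)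
    (hN : ∀ x : S, orderOf x = 11 →
      Nat.card (normalizer ((zpowers x : Subgroup S) : Set S)) = 22) : False := by
  classical
  haveI := Fintype.ofFinite S
  haveI := Fintype.ofFinite (Sylow 11 S)
  haveI := Fintype.ofFinite (Sylow 3 S)
  haveI : Fact (Nat.Prime 2) := ⟨Nat.prime_two⟩
  have hT : ∀ T : Sylow 11 S, Nat.card (T : Subgroup S) = 11 := fun T => by
    rw [SmallGroups.card_sylow_eq T (show Nat.card S = 11 ^ 1 * 24 by rw [hS264]; norm_num) (by norm_num),
      pow_one]
  have c11 : 120 ≤ {g : S | orderOf g = 11}.ncard := by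
    refine le_trans (le_of_eq ?_) (mul_le_ncard_orderOf hT)
    rw [hn11]
  have c3 : 44 ≤ {g : S | orderOf g = 3}.ncard := by
    refine le_trans (le_of_eq ?_) (mul_le_ncard_orderOf h3)
    rw [hn]
  -- elements of order 6
  have c6 : 44 ≤ {g : S | orderOf g = 6}.ncard := by
    have hz : ∀ P : Sylow 3 S, ∃ z : S, orderOf z = 2 ∧
        z ∈ centralizer ((P : Subgroup S) : Set S) := fun P => by
      obtain ⟨z, hz⟩ := exists_prime_orderOf_dvd_card'
        (G := centralizer ((P : Subgroup S) : Set S)) 2 (hC P)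
      exact ⟨z, by rw [Subgroup.orderOf_coe, hz], z.2⟩
    choose z hz2 hzC using hz
    have hord : ∀ (P : Sylow 3 S) (g : (P : Subgroup S)), g ≠ 1 →
        orderOf (z P * g) = 6 ∧ (z P * g) ^ 4 = (g : S) := by
      intro P g hg
      obtain ⟨-, ho⟩ := zpowers_eq_of_mem (h3 P) g.2 fun h => hg (Subtype.ext h)
      have hcom : Commute (z P) g := (mem_centralizer_iff.1 (hzC P) g g.2).symm
      refine ⟨?_, ?_⟩
      · rw [hcom.orderOf_mul_eq_mul_orderOf_of_coprime (by rw [hz2, ho]; norm_num), hz2, ho]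
      · rw [hcom.mul_pow, orderOf_dvd_iff_pow_eq_one.1 (show orderOf (z P) ∣ 4 by rw [hz2]; norm_num),
          one_mul, pow_succ, orderOf_dvd_iff_pow_eq_one.1 (dvd_of_eq ho), one_mul]
    rw [← Nat.card_coe_set_eq]
    have hc : Nat.card (Σ P : Sylow 3 S, {g : (P : Subgroup S) // g ≠ 1}) = 44 := by
      rw [Nat.card_sigma, Finset.sum_const_nat (m := 2), Finset.card_univ,
        Fintype.card_eq_nat_card, hn]
      intro P _
      rw [Nat.card_eq_fintype_card, Fintype.card_subtype_compl, Fintype.card_subtype_eq,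
        ← Nat.card_eq_fintype_card, h3]
    rw [← hc]
    refine Nat.card_le_card_of_injective (fun w => (⟨z w.1 * (w.2.1 : S),
      (hord w.1 w.2.1 w.2.2).1⟩ : {g : S | orderOf g = 6})) ?_
    rintro ⟨P, g, hg⟩ ⟨Q, k, hk⟩ h
    have h' : z P * (g : S) = z Q * (k : S) := congrArg Subtype.val h
    have e : (g : S) = k := by rw [← (hord P g hg).2, h', (hord Q k hk).2]
    obtain rfl : P = Q := Sylow.ext
      ((zpowers_eq_of_mem (h3 P) g.2 fun h => hg (Subtype.ext h)).1.symm.trans
        (e ▸ (zpowers_eq_of_mem (h3 Q) k.2 fun h => hk (Subtype.ext h)).1))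
    obtain rfl : g = k := Subtype.ext e
    rfl
  -- involutions
  have hgen : ∀ T : Sylow 11 S, ∃ x : S, orderOf x = 11 ∧ zpowers x = (T : Subgroup S) := by
    intro T
    obtain ⟨x, hx⟩ := exists_prime_orderOf_dvd_card' (G := (T : Subgroup S)) 11 (by rw [hT])
    refine ⟨x, by rw [Subgroup.orderOf_coe, hx], (zpowers_eq_of_mem (hT T) x.2 ?_).1⟩
    intro h
    rw [show x = 1 from Subtype.ext h, orderOf_one] at hx
    omega
  have c2 : 66 ≤ {g : S | orderOf g = 2}.ncard := by
    have key := Finset.card_mul_le_card_mul (m := 11) (n := 2)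
      (fun (T : Sylow 11 S) (z : S) => z • T = T) (s := Finset.univ)
      (t := Finset.univ.filter fun z : S => orderOf z = 2) ?_ ?_
    · rw [Finset.card_univ, Fintype.card_eq_nat_card, hn11] at key
      rw [show {g : S | orderOf g = 2}.ncard = (Finset.univ.filter fun z : S => orderOf z = 2).card by
        rw [← Set.ncard_coe_finset, Finset.coe_filter]; simp]
      omega
    · -- eleven involutions in each normaliser
      intro T _
      obtain ⟨x, hx, hxT⟩ := hgen T
      obtain ⟨z0, hz0⟩ := exists_prime_orderOf_dvd_card'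
        (G := normalizer ((zpowers x : Subgroup S) : Set S)) 2 (by rw [hN x hx]; norm_num)
      have ho : orderOf (z0 : S) = 2 := by rw [Subgroup.orderOf_coe, hz0]
      have hinv := (involution_spec hS hn h11 hx ho z0.2).1
      refine le_trans (Finset.card_fin 11).ge ?_
      refine Finset.card_le_card_of_injOn (fun i : Fin 11 => (z0 : S) * x ^ (i : ℕ)) ?_ ?_
      · intro i _
        simp only [Finset.coe_filter, Finset.bipartiteAbove, Finset.mem_filter, Finset.mem_univ,
          true_and, Set.mem_ofPred_eq]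
        refine ⟨?_, ?_⟩
        · refine orderOf_eq_prime ?_ ?_
          · have e : (z0 : S) * x ^ (i : ℕ) * (z0 : S)⁻¹ = (x ^ (i : ℕ))⁻¹ := by
              rw [← conj_pow, hinv, inv_pow]
            have e2 : (z0 : S) * z0 = 1 := by rw [← sq, ← ho, pow_orderOf_eq_one]
            calc ((z0 : S) * x ^ (i : ℕ)) ^ 2
                = ((z0 : S) * x ^ (i : ℕ) * (z0 : S)⁻¹) * ((z0 : S) * z0) * x ^ (i : ℕ) := by
                  rw [sq]; simp only [mul_assoc, inv_mul_cancel_left]
              _ = 1 := by rw [e, e2, mul_one, inv_mul_cancel]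
          · intro h
            have h' : (z0 : S) ∈ zpowers x := by
              rw [eq_inv_of_mul_eq_one_left h]
              exact inv_mem (pow_mem (mem_zpowers x) _)
            have h7 := orderOf_dvd_natCard (⟨(z0 : S), h'⟩ : zpowers x)
            rw [Subgroup.orderOf_mk, ho, Nat.card_zpowers, hx] at h7
            omega
        · rw [Sylow.smul_eq_iff_mem_normalizer]
          show _ ∈ normalizer ((T : Subgroup S) : Set S)
          rw [← hxT]
          exact mul_mem z0.2 (le_normalizer (pow_mem (mem_zpowers x) _))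
      · intro i _ j _ h
        have h' := mul_left_cancel h
        rw [pow_eq_pow_iff_modEq, hx, Nat.ModEq, Nat.mod_eq_of_lt i.2, Nat.mod_eq_of_lt j.2] at h'
        exact Fin.ext h'
    · -- each involution lies in at most two normalisers
      intro z hz
      have hz2 : orderOf z = 2 := (Finset.mem_filter.1 hz).2
      rcases (Finset.univ.bipartiteBelow (fun (T : Sylow 11 S) z => z • T = T) z).eq_empty_or_nonempty
        with h0 | ⟨T0, hT0⟩
      · rw [h0, Finset.card_empty]; omega
      simp only [Finset.bipartiteBelow, Finset.mem_filter, Finset.mem_univ, true_and] at hT0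
      obtain ⟨x, hx, hxT⟩ := hgen T0
      have hzN : z ∈ normalizer ((zpowers x : Subgroup S) : Set S) := by
        rw [hxT]; exact Sylow.smul_eq_iff_mem_normalizer.1 hT0
      have hinv := (involution_spec hS hn h11 hx hz2 hzN).1
      have hfix : ∀ U : Sylow 11 S, x • U = U → U = T0 := by
        intro U hU
        have hm := Sylow.smul_eq_iff_mem_normalizer.1 hU
        have hxU : x ∈ (U : Subgroup S) := by
          have h' : x ∈ (T0 : Subgroup S) ⊓ normalizer ((U : Subgroup S) : Set S) :=
            ⟨hxT ▸ mem_zpowers x, hm⟩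
          exact (le_of_eq (T0.2.inf_normalizer_sylow U) h').2
        exact Sylow.ext ((zpowers_eq_of_mem (hT U) hxU
          (fun h => by rw [h, orderOf_one] at hx; omega)).1.symm.trans hxT)
      have h1 := fixed_mul_le_of_inverts (X := Sylow 11 S) (Fact.out : Nat.Prime 11) (by norm_num)
        x z hx hinv
      have h2 : {y : Sylow 11 S | x • y ≠ y}.ncard ≤ 11 := by
        have hsub : {y : Sylow 11 S | x • y ≠ y} ⊆ ({T0} : Set (Sylow 11 S))ᶜ := by
          intro y hy h
          rw [Set.mem_singleton_iff] at h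
          subst h
          exact hy (Sylow.smul_eq_iff_mem_normalizer.2 (le_normalizer (hxT ▸ mem_zpowers x)))
        refine (Set.ncard_le_ncard hsub (Set.toFinite _)).trans ?_
        rw [Set.ncard_compl, hn11, Set.ncard_singleton]
      have h3 : (Finset.univ.bipartiteBelow (fun (T : Sylow 11 S) z => z • T = T) z).card ≤
          {y : Sylow 11 S | z • y = y ∧ x • y ≠ y}.ncard + 1 := by
        rw [← Set.ncard_coe_finset, ← Set.ncard_singleton T0]
        refine le_trans (Set.ncard_le_ncard ?_ (Set.toFinite _)) (Set.ncard_union_le _ _)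
        intro U hU
        simp only [Finset.coe_filter, Finset.bipartiteBelow, Finset.mem_univ, true_and,
          Set.mem_ofPred_eq] at hU
        by_cases h : x • U = U
        · exact Or.inr (hfix U h)
        · exact Or.inl ⟨hU, h⟩
      omega
  -- total
  have hd : ∀ a b : ℕ, a ≠ b → Disjoint {g : S | orderOf g = a} {g | orderOf g = b} :=
    fun a b hab => Set.disjoint_left.2 fun g h1 h2 => hab (h1.symm.trans h2)
  have htot : {g : S | orderOf g = 11}.ncard + {g : S | orderOf g = 3}.ncard +
      {g : S | orderOf g = 6}.ncard + {g : S | orderOf g = 2}.ncard ≤ Nat.card S := by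
    rw [← Set.ncard_union_eq (hd 11 3 (by norm_num)), ← Set.ncard_union_eq, ← Set.ncard_union_eq]
    · exact Set.ncard_le_card _
    · simp only [Set.disjoint_union_left]
      exact ⟨⟨hd _ _ (by norm_num), hd _ _ (by norm_num)⟩, hd _ _ (by norm_num)⟩
    · exact Set.disjoint_union_left.2 ⟨hd _ _ (by norm_num), hd _ _ (by norm_num)⟩
  omega

/-- An element of order 5 cannot centralise a Sylow 3-subgroup when there are 12 Sylow
11-subgroups whose normalisers have order prime to 3. -/
theorem not_five_dvd_centralizer (hS : ¬ IsMulCommutative S)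
    (P : Sylow 3 S) (hC : 5 ∣ Nat.card (centralizer ((P : Subgroup S) : Set S)))
    (h3 : 3 ∣ Nat.card (P : Subgroup S))
    {k : ℕ} (hk : ¬ 3 ∣ k) (h11 : 11 ∣ Nat.card S) (hcard : Nat.card S = 12 * k) (hn11 : Nat.card (Sylow 11 S) = 12) : False := by
  classical
  haveI : Fact (Nat.Prime 5) := ⟨by norm_num⟩
  obtain ⟨u0, hu0⟩ := exists_prime_orderOf_dvd_card'
    (G := centralizer ((P : Subgroup S) : Set S)) 5 hC
  obtain ⟨g0, hg0⟩ := exists_prime_orderOf_dvd_card' (G := (P : Subgroup S)) 3 h3
  have hu : orderOf (u0 : S) = 5 := by rw [Subgroup.orderOf_coe, hu0]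
  have hg : orderOf (g0 : S) = 3 := by rw [Subgroup.orderOf_coe, hg0]
  have hcom : Commute (u0 : S) g0 := (mem_centralizer_iff.1 u0.2 g0 g0.2).symm
  have hmove : ∀ T : Sylow 11 S, (g0 : S) • T ≠ T := by
    intro T h
    have h1 := orderOf_dvd_natCard
      (⟨(g0 : S), Sylow.smul_eq_iff_mem_normalizer.1 h⟩ : normalizer ((T : Subgroup S) : Set S))
    rw [Subgroup.orderOf_mk, hg] at h1
    have h2 := SmallGroups.card_normalizer_sylow_mul T
    rw [hn11, hcard, mul_comm 12 k] at h2
    exact hk ((Nat.eq_of_mul_eq_mul_right (by norm_num) h2) ▸ h1)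
  set A : Set (Sylow 11 S) := {T | (u0 : S) • T = T} with hA
  have hinv : ∀ g ∈ zpowers (g0 : S), ∀ T ∈ A, g • T ∈ A := by
    intro g hg T hT
    obtain ⟨i, rfl⟩ := mem_zpowers_iff.1 hg
    show (u0 : S) • _ = _
    rw [← mul_smul, (hcom.zpow_right i).eq, mul_smul, hT]
  have hgp : IsPGroup 3 (zpowers (g0 : S)) :=
    IsPGroup.of_card (n := 1) (by rw [Nat.card_zpowers, hg, pow_one])
  have hup : IsPGroup 5 (zpowers (u0 : S)) :=
    IsPGroup.of_card (n := 1) (by rw [Nat.card_zpowers, hu, pow_one])
  have h1 := ncard_modEq_fixed hgp A hinv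
  rw [show {T ∈ A | ∀ g ∈ zpowers (g0 : S), g • T = T} = ∅ from Set.eq_empty_iff_forall_notMem.2
    fun T hT => hmove T (hT.2 _ (mem_zpowers _)), Set.ncard_empty] at h1
  have h2 := ncard_modEq_fixed hup (Set.univ : Set (Sylow 11 S)) fun _ _ _ _ => trivial
  rw [show {T ∈ (Set.univ : Set (Sylow 11 S)) | ∀ g ∈ zpowers (u0 : S), g • T = T} = A from
    Set.ext fun T => ⟨fun h => h.2 _ (mem_zpowers _), fun h => ⟨trivial, fun g hg =>
      (zpowers_le.2 (show (u0 : S) ∈ MulAction.stabilizer S T from h) hg :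
        g ∈ MulAction.stabilizer S T)⟩⟩, Set.ncard_univ, hn11] at h2
  have hle : A.ncard ≤ 12 := hn11 ▸ Set.ncard_le_card A
  rw [Nat.ModEq] at h1 h2
  have huniv : A = Set.univ := Set.eq_of_subset_of_ncard_le (Set.subset_univ _)
    (by rw [Set.ncard_univ, hn11]; omega) Set.finite_univ
  have hker : (u0 : S) ∈ (MulAction.toPermHom S (Sylow 11 S)).ker :=
    Equiv.ext fun T => (huniv.symm ▸ Set.mem_univ T : T ∈ A)
  rcases (MonoidHom.normal_ker (MulAction.toPermHom S (Sylow 11 S))).eq_bot_or_eq_top with h | h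
  · rw [h, mem_bot] at hker
    rw [hker, orderOf_one] at hu
    omega
  · refine SmallGroups.normalizer_sylow_ne_top hS (p := 11) h11 default
      ((eq_top_iff' _).2 fun a => ?_)
    have h2 : a ∈ (MulAction.toPermHom S (Sylow 11 S)).ker := h ▸ mem_top a
    exact Sylow.smul_eq_iff_mem_normalizer.1 (Equiv.ext_iff.1 h2 default)

end Cfsg.Agent.Lib.SylowNumber.TwentyTwo
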